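import Cfsg.Agent.GenA.T23.Iso.Local
import Cfsg.Agent.Lib.ThreeTransp.M22.Perfect
import Cfsg.Agent.S5361
import Cfsg.Agent.GenA.Tower.Main23

/-!
Order, width and simplicity of a group of type M(23).
-/

set_option autoImplicit false
set_option linter.unusedSectionVars false

namespace Cfsg.Agent.GenA.T23.L.M23

open Cfsg.Agent.GenA.Tower
open Cfsg.Agent.ThreeTransp
open Cfsg.Agent.ThreeTransp.Factor (nb Hd Sd Dl Dq Sep mem_Hd Hd_commute grp_Dl)

universe u


variable {G : Type u} [Group G] [Finite G] {D : Set G}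
  (hD : Cfsg.IsThreeTranspositionGroup D)
  (hprim : Cfsg.IsPrimitiveUnderConj D) (h23 : Cfsg.Agent.GenA.T23.L.L23 D)
include hD hprim h23

theorem simple_Sd {a : G} (ha : a ∈ D) : IsSimpleGroup (Sd D a) :=
  simple_of_perfect (grp hD hprim h23 ha) (prim hD hprim h23 ha) (t22 hD hprim h23 ha).1
    (ThreeTransp.M22.exists_commuting (grp hD hprim h23 ha) (prim hD hprim h23 ha)
      (t22 hD hprim h23 ha))
    (ThreeTransp.M22.perfect_group (grp hD hprim h23 ha) (prim hD hprim h23 ha)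
      (t22 hD hprim h23 ha))

theorem mem_commutator_Hd {a : G} (ha : a ∈ D) :
    (⟨a, mem_Hd_self hD hprim h23 ha⟩ : ↥(Hd D a)) ∈ commutator ↥(Hd D a) := by
  obtain ⟨p, q, r, s, t, v, hp, hq, hr, hs, ht, hv, e⟩ := six_product hD hprim h23 ha
  have htr := Factor.transitive_Dl hD hprim ha (exists_comm hD hprim h23)
  set P : ↥(Hd D a) := ⟨p, mem_Hd hp⟩ with hP
  set π := QuotientGroup.mk' (commutator ↥(Hd D a)) with hπ
  have hπc : ∀ y ∈ Dl D a, π y = π P := by
    intro y hy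
    obtain ⟨g, hg⟩ := htr P hp y hy
    rw [← hg, map_mul, map_mul, map_inv]
    have hab : ∀ x z : ↥(Hd D a) ⧸ commutator ↥(Hd D a), x * z = z * x := fun x z => by
      obtain ⟨x, rfl⟩ := QuotientGroup.mk'_surjective _ x
      obtain ⟨z, rfl⟩ := QuotientGroup.mk'_surjective _ z
      rw [← commutatorElement_eq_one_iff_mul_comm, ← map_commutatorElement]
      exact (QuotientGroup.eq_one_iff _).2 (Subgroup.commutator_mem_commutator
        (Subgroup.mem_top _) (Subgroup.mem_top _))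
    rw [hab (π g), mul_inv_cancel_right]
  have e' : (⟨a, mem_Hd_self hD hprim h23 ha⟩ : ↥(Hd D a)) =
      P * ⟨q, mem_Hd hq⟩ * ⟨r, mem_Hd hr⟩ * ⟨s, mem_Hd hs⟩ * ⟨t, mem_Hd ht⟩ * ⟨v, mem_Hd hv⟩ :=
    Subtype.ext e
  rw [e', ← QuotientGroup.eq_one_iff (N := commutator ↥(Hd D a))]
  show π _ = 1
  have hsq : π P * π P = 1 := by
    rw [← map_mul, Classes.sq (grp_Dl hD a) (show P ∈ Dl D a from hp), map_one]
  simp only [map_mul, hπc ⟨q, mem_Hd hq⟩ hq, hπc ⟨r, mem_Hd hr⟩ hr, hπc ⟨s, mem_Hd hs⟩ hs,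
    hπc ⟨t, mem_Hd ht⟩ ht, hπc ⟨v, mem_Hd hv⟩ hv, hsq, one_mul]

theorem perfect_Hd {a : G} (ha : a ∈ D) : commutator ↥(Hd D a) = ⊤ := by
  set π := QuotientGroup.mk' (Subgroup.center ↥(Hd D a))
  rw [eq_top_iff]
  intro x _
  have hmap : (commutator ↥(Hd D a)).map π = ⊤ := by
    rw [commutator_def, Subgroup.map_commutator,
      Subgroup.map_top_of_surjective _ (QuotientGroup.mk'_surjective _), ← commutator_def]
    exact ThreeTransp.M22.perfect_group (grp hD hprim h23 ha) (prim hD hprim h23 ha)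
      (t22 hD hprim h23 ha)
  obtain ⟨y, hy, hyx⟩ : π x ∈ (commutator ↥(Hd D a)).map π := hmap ▸ Subgroup.mem_top _
  have hz : y⁻¹ * x ∈ Subgroup.center ↥(Hd D a) := QuotientGroup.eq.1 hyx
  rw [center_eq hD hprim h23 ha, Subgroup.mem_subgroupOf] at hz
  obtain ⟨n, hn⟩ := Subgroup.mem_zpowers_iff.1 hz
  have : y⁻¹ * x = (⟨a, mem_Hd_self hD hprim h23 ha⟩ : ↥(Hd D a)) ^ n := Subtype.ext (by
    rw [SubgroupClass.coe_zpow]; exact hn.symm)
  rw [show x = y * (y⁻¹ * x) by group, this]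
  exact mul_mem hy (zpow_mem (mem_commutator_Hd hD hprim h23 ha) n)

theorem perfect_group : commutator G = ⊤ := by
  rw [eq_top_iff, ← hD.2.2, Subgroup.closure_le]
  intro a ha
  have h : (⟨a, mem_Hd_self hD hprim h23 ha⟩ : ↥(Hd D a)) ∈ commutator ↥(Hd D a) :=
    mem_commutator_Hd hD hprim h23 ha
  have := Subgroup.mem_map_of_mem (Hd D a).subtype h
  rw [commutator_def, Subgroup.map_commutator] at this
  rw [SetLike.mem_coe, commutator_def]
  exact Subgroup.commutator_mono le_top le_top this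

theorem simple : IsSimpleGroup G :=
  simple_of_perfect hD hprim h23.1 (exists_comm hD hprim h23) (perfect_group hD hprim h23)

theorem card_group : Nat.card G = 4089470473293004800 := by
  obtain ⟨a, ha, -⟩ := hprim.2.1
  rw [card_of_centralizer hD hprim.1 ha, centralizer_eq hD hprim h23 ha, ncard_class hD hprim h23,
    card_loc hD hprim h23 ha]

theorem width : Cfsg.commutingWidth D = 23 := by
  classical
  have hbound : ∀ a ∈ D, ∀ E : Set (Sd D a), E ⊆ Dq D a →
      (∀ x ∈ E, ∀ y ∈ E, Commute x y) → E.ncard ≤ 22 := by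
    intro a ha E hE hc
    have := ThreeTransp.M22.width (grp hD hprim h23 ha) (prim hD hprim h23 ha)
      (t22 hD hprim h23 ha)
    rw [← this]
    refine le_csSup ⟨Nat.card (Sd D a), ?_⟩ ⟨E, hE, Set.toFinite _, hc, rfl⟩
    rintro n ⟨E', -, -, -, rfl⟩
    exact (Set.ncard_le_ncard (Set.subset_univ E') (Set.toFinite _)).trans
      (Set.ncard_univ _).le
  refine IsGreatest.csSup_eq ⟨?_, ?_⟩
  · obtain ⟨a, ha, -⟩ := hprim.2.1
    have hw := ThreeTransp.M22.width (grp hD hprim h23 ha) (prim hD hprim h23 ha)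
      (t22 hD hprim h23 ha)
    have hmem : 22 ∈ {n : ℕ | ∃ E : Set (Sd D a), E ⊆ Dq D a ∧ E.Finite ∧
        (∀ x ∈ E, ∀ y ∈ E, Commute x y) ∧ E.ncard = n} := by
      rw [← hw]
      refine Nat.sSup_mem ⟨0, ∅, Set.empty_subset _, Set.finite_empty, by simp, by simp⟩
        ⟨Nat.card (Sd D a), ?_⟩
      rintro n ⟨E', -, -, -, rfl⟩
      exact (Set.ncard_le_ncard (Set.subset_univ E') (Set.toFinite _)).trans
        (Set.ncard_univ _).le
    obtain ⟨E, hE, -, hc, hcard⟩ := hmem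
    set P : Set G := {x | x ∈ nb D a ∧ pr D a x ∈ E}
    have himg : pr D a '' P = E := by
      ext q
      constructor
      · rintro ⟨x, hx, rfl⟩; exact hx.2
      · intro hq
        obtain ⟨x, hx, rfl⟩ : q ∈ pr D a '' nb D a := by rw [image_nb_pr]; exact hE hq
        exact ⟨x, ⟨hx, hq⟩, rfl⟩
    refine ⟨insert a P, Set.insert_subset ha fun x hx => hx.1.1, Set.toFinite _, ?_, ?_⟩
    · rintro x (rfl | hx) y (rfl | hy)
      exacts [Commute.refl _, hy.1.2.2, hx.1.2.2.symm,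
        (pr_comm hD hx.1 hy.1).1 (hc _ hx.2 _ hy.2)]
    · rw [Set.ncard_insert_of_notMem (fun h => h.1.2.1 rfl) (Set.toFinite _),
        ← ncard_pr (sep hD hprim h23 ha) (fun x hx => hx.1), himg, hcard]
  · rintro n ⟨E, hE, -, hc, rfl⟩
    rcases E.eq_empty_or_nonempty with rfl | ⟨a, ha⟩
    · simp
    have haD := hE ha
    have hsub : E \ {a} ⊆ nb D a := fun x hx => ⟨hE hx.1, hx.2, hc a ha x hx.1⟩
    have h := hbound a haD (pr D a '' (E \ {a}))
      (by rintro _ ⟨x, hx, rfl⟩; exact pr_mem (hsub hx))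
      (by
        rintro _ ⟨x, hx, rfl⟩ _ ⟨y, hy, rfl⟩
        exact (pr_comm hD (hsub hx) (hsub hy)).2 (hc x hx.1 y hy.1))
    rw [ncard_pr (sep hD hprim h23 haD) hsub, Set.ncard_sdiff_singleton_of_mem ha] at h
    omega


end Cfsg.Agent.GenA.T23.L.M23
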