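import Cfsg.Agent.Lib.ThreeTransp.M23Iso.Shape
import Cfsg.Agent.GenA.T23.Iso.Main

/-!
Two groups of type M(23) have maps between the neighbourhoods of two commuting members that agree on
the common neighbours.
-/

set_option autoImplicit false
set_option linter.unusedSectionVars false

namespace Cfsg.Agent.GenA.T23.L.Iso

open Cfsg.Agent.ThreeTransp.M23Iso

open Matrix
open Cfsg.Agent.Classical.Unitary
open Cfsg.Agent.InvChar.Coset (FF)
open Cfsg.Agent.ThreeTransp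
open Cfsg.Agent.ThreeTransp.M22Iso
open Cfsg.Agent.ThreeTransp.Factor (nb Hd Sd Dq Sep mem_Hd Hd_commute)
open Cfsg.Agent.ThreeTransp.Cover (mem_nb_symm conj_nb)
open Cfsg.Agent.GenA.Tower (pr pr_mem pr_mul pr_comm pr_nb pr_inj image_nb_pr)

local notation "H" => Cfsg.hermForm 6 FF 2

universe u v

variable {G : Type u} [Group G] [Finite G] {D : Set G}
  (hD : Cfsg.IsThreeTranspositionGroup D) (hprim : Cfsg.IsPrimitiveUnderConj D)
  (h23 : Cfsg.Agent.GenA.T23.L.L23 D)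

section One

include hD hprim h23

theorem exists_far_nb {a x : G} (ha : a ∈ D) (hx : x ∈ nb D a) :
    ∃ z ∈ nb D a, ¬ Commute x z := by
  by_contra! h
  have hsub : nb D a ⊆ insert x (nb D a ∩ nb D x) := fun y hy => by
    by_cases e : y = x
    · exact Or.inl e
    · exact Or.inr ⟨hy, hy.1, e, h y hy⟩
  have h1 := (Set.ncard_le_ncard hsub (Set.toFinite _)).trans (Set.ncard_insert_le _ _)
  rw [GenA.T23.L.M23.ncard_nb hD hprim h23 ha, GenA.T23.L.M23.ncard_one hD hprim h23 ha hx] at h1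
  omega

/-- Coordinates in which the common neighbours of a third member form the standard set. -/
theorem exists_std_bcoord {a x z : G} (ha : a ∈ D) (hx : x ∈ nb D a) (hz : z ∈ nb D a)
    (hxz : ¬ Commute x z) :
    ∃ g : BCoord D a x, ∀ v, Pt v → (g.f v ∈ nb D z ↔ Std v) := by
  have hs := GenA.T23.L.M23.sep hD hprim h23 ha
  obtain ⟨C, hC⟩ := exists_std (GenA.T23.L.M23.grp hD hprim h23 ha)
    (GenA.T23.L.M23.prim hD hprim h23 ha) (GenA.T23.L.M23.t22 hD hprim h23 ha) (pr_mem hx)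
    (pr_mem hz) (fun h => hxz ((pr_comm hD hx hz).1 h))
  obtain ⟨g, hg⟩ := BCoord.ofCoord hD hs hx C
  refine ⟨g, fun v hv => ?_⟩
  rw [← hC v hv, ← hg v hv, ← pr_nb hD hs hz (g.mem v hv).1]
  exact ⟨fun h => ⟨(pr_nb hD hs hx (g.mem v hv).1).2 (g.mem v hv).2, h⟩, fun h => h.2⟩

/-- In given coordinates, the standard set for a member outside on one side, moved by a similarity,
is the common neighbourhood of a member outside on the other side. -/
theorem exists_sim {a x w : G} (ha : a ∈ D) (hx : x ∈ nb D a) (hw : w ∈ nb D x)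
    (haw : ¬ Commute a w) (g : BCoord D a x) :
    ∃ S : Sim, ∀ v, Pt v → (g.f (S.T v) ∈ nb D w ↔ Std v) := by
  have hs := GenA.T23.L.M23.sep hD hprim h23 hx.1
  have han := mem_nb_symm ha hx
  obtain ⟨S, hS⟩ := exists_std_sim (GenA.T23.L.M23.grp hD hprim h23 hx.1)
    (GenA.T23.L.M23.prim hD hprim h23 hx.1) (GenA.T23.L.M23.t22 hD hprim h23 hx.1) (pr_mem han)
    (pr_mem hw) (fun h => haw ((pr_comm hD han hw).1 h)) (g.symm.toCoord hD hs han)
  refine ⟨S, fun v hv => ?_⟩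
  rw [← hS v hv, Coord.comp_apply, BCoord.toCoord_f, BCoord.symm_f]
  have hm := (g.mem _ (S.pt hv)).2
  exact ⟨fun h => ⟨(pr_nb hD hs han hm).2 (g.mem _ (S.pt hv)).1, (pr_nb hD hs hw hm).2 h⟩,
    fun h => (pr_nb hD hs hw hm).1 h.2⟩

/-- The similarity between the two sides has determinant other than one. -/
theorem det_ne_one {a x z w : G} (ha : a ∈ D) (hx : x ∈ nb D a) (hz : z ∈ nb D a)
    (hxz : ¬ Commute x z) (hw : w ∈ nb D x) (haw : ¬ Commute a w) (g : BCoord D a x)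
    (hg : ∀ v, Pt v → (g.f v ∈ nb D z ↔ Std v)) (S : Sim)
    (hS : ∀ v, Pt v → (g.f (S.T v) ∈ nb D w ↔ Std v)) : (simMat S).det ≠ 1 := by
  intro hd
  obtain ⟨k, hk⟩ := exists_su S hd
  obtain ⟨h, hh, hhk⟩ := g.realize hD k
  obtain ⟨hha, hhx⟩ := closure_commute hh
  have hz1 : h * z * h⁻¹ ∈ nb D a := M22.Chart.conj_mem_nb hD hha hz
  have hxz1 : ¬ Commute x (h * z * h⁻¹) := fun e => hxz (by
    have h1 := (Basic.commute_conj (g := h⁻¹)).2 e
    rwa [RankThree.conj_self_of_commute hhx.inv_left.symm,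
      show h⁻¹ * (h * z * h⁻¹) * h⁻¹⁻¹ = z by group] at h1)
  have hcom : ∀ t ∈ nb D a ∩ nb D x ∩ nb D w, Commute t (h * z * h⁻¹) := by
    intro t ht
    obtain ⟨u, hu, rfl⟩ := g.cover t ht.1
    obtain ⟨v, rfl⟩ := S.T.surjective u
    have hv := S.pt_iff.1 hu
    have hσ : Pt (fun i => S.σ (v i)) := pt_map S.σ hv
    have hn := (hg _ hσ).2 ((std_map S.σ v).2 ((hS v hv).1 ht.2))
    rw [hk v, ← hhk _ hσ]
    exact Basic.commute_conj.2 hn.2.2.symm
  obtain ⟨y, hy⟩ : (nb D a ∩ nb D x ∩ nb D w).Nonempty := by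
    rw [show nb D a ∩ nb D x ∩ nb D w = nb D x ∩ nb D a ∩ nb D w by ext; simp; tauto]
    exact Set.nonempty_of_ncard_ne_zero ((GenA.T23.L.M23.ncard_cross hD hprim h23 hx.1
      (mem_nb_symm ha hx) hw haw).trans_ne (by norm_num : (126 : ℕ) ≠ 0))
  have hs := GenA.T23.L.M23.sep hD hprim h23 hy.1.1.1
  have ya : a ∈ nb D y := mem_nb_symm ha hy.1.1
  have yx : x ∈ nb D y := mem_nb_symm hx.1 hy.1.2
  have yw : w ∈ nb D y := mem_nb_symm hw.1 hy.2
  have yz : h * z * h⁻¹ ∈ nb D y :=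
    ⟨hz1.1, fun e => hxz1 (by rw [e]; exact hy.1.2.2.2), hcom y hy⟩
  obtain ⟨q, hq, hqz⟩ := not_shared (GenA.T23.L.M23.grp hD hprim h23 hy.1.1.1)
    (GenA.T23.L.M23.prim hD hprim h23 hy.1.1.1) (GenA.T23.L.M23.t22 hD hprim h23 hy.1.1.1)
    (pr_mem ya) (pr_mem yw) (fun e => haw ((pr_comm hD ya yw).1 e))
    ⟨(pr_nb hD hs ya yx).2 hx, (pr_nb hD hs yw yx).2 (mem_nb_symm hx.1 hw)⟩
    ((pr_nb hD hs ya yz).2 hz1) (fun e => hxz1 ((pr_comm hD yx yz).1 e))
  obtain ⟨t, ⟨⟨⟨hty, hta⟩, htx⟩, htw⟩, rfl⟩ :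
      q ∈ pr D y '' (nb D y ∩ nb D a ∩ nb D x ∩ nb D w) := by
    rw [GenA.Tower.image_three hD hs ya yx yw]; exact hq
  exact hqz ((pr_comm hD hty yz).2 (hcom t ⟨⟨hta, htx⟩, htw⟩))

end One

variable {G' : Type v} [Group G'] [Finite G'] {D' : Set G'}
  (hD' : Cfsg.IsThreeTranspositionGroup D')
  (hprim' : Cfsg.IsPrimitiveUnderConj D') (h23' : Cfsg.Agent.GenA.T23.L.L23 D')
include hD hprim h23 hD' hprim' h23'

/-- Coordinates on the common neighbours carrying one more common neighbourhood along extend to a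
map of the whole neighbourhood. -/
theorem exists_side {a x z : G} {a' x' z' : G'} (ha : a ∈ D) (hx : x ∈ nb D a) (hz : z ∈ nb D a)
    (hxz : ¬ Commute x z) (ha' : a' ∈ D') (hx' : x' ∈ nb D' a') (hz' : z' ∈ nb D' a')
    (hxz' : ¬ Commute x' z') (g : BCoord D a x) (g' : BCoord D' a' x')
    (hS : ∀ v, Pt v → (g.f v ∈ nb D z ↔ g'.f v ∈ nb D' z')) :
    ∃ θ : G → G', IsBall D a D' a' θ ∧ θ x = x' ∧ ∀ v, Pt v → θ (g.f v) = g'.f v := by
  classical
  have hs := GenA.T23.L.M23.sep hD hprim h23 ha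
  have hs' := GenA.T23.L.M23.sep hD' hprim' h23' ha'
  obtain ⟨θ₀, hθ₀, hθ₀f⟩ := exists_ball (g.toCoord hD hs hx) (g'.toCoord hD' hs' hx')
  have hS₀ : ∀ q ∈ nb (Dq D a) (pr D a x),
      (θ₀ q ∈ nb (Dq D' a') (pr D' a' z') ↔ q ∈ nb (Dq D a) (pr D a z)) := by
    intro q hq
    obtain ⟨v, hv, rfl⟩ := (g.toCoord hD hs hx).cover q hq
    rw [hθ₀f v hv, BCoord.toCoord_f, BCoord.toCoord_f, pr_nb hD' hs' hz' (g'.mem v hv).1,
      pr_nb hD hs hz (g.mem v hv).1]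
    exact (hS v hv).symm
  obtain ⟨e, he, hex, -, heq⟩ := exists_iso_ext (GenA.T23.L.M23.grp hD hprim h23 ha)
    (GenA.T23.L.M23.prim hD hprim h23 ha) (GenA.T23.L.M23.t22 hD hprim h23 ha)
    (GenA.T23.L.M23.grp hD' hprim' h23' ha') (GenA.T23.L.M23.prim hD' hprim' h23' ha')
    (GenA.T23.L.M23.t22 hD' hprim' h23' ha') (pr_mem hx) (pr_mem hz)
    (fun h => hxz ((pr_comm hD hx hz).1 h)) (pr_mem hx') (pr_mem hz')
    (fun h => hxz' ((pr_comm hD' hx' hz').1 h)) hθ₀ hS₀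
  have h0 : ∀ q, ∃ q' : G', q ∈ nb D a → q' ∈ nb D' a' ∧ pr D' a' q' = e (pr D a q) := by
    intro q
    by_cases hq : q ∈ nb D a
    · have h : e (pr D a q) ∈ pr D' a' '' nb D' a' := by
        rw [image_nb_pr, ← he]; exact ⟨_, pr_mem hq, rfl⟩
      obtain ⟨q', hq', hh⟩ := h
      exact ⟨q', fun _ => ⟨hq', hh⟩⟩
    · exact ⟨1, fun h => absurd h hq⟩
  choose θ hθ using h0
  have θeq : ∀ q ∈ nb D a, ∀ q' ∈ nb D' a', e (pr D a q) = pr D' a' q' → θ q = q' :=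
    fun q hq q' hq' h => pr_inj hs' (hθ q hq).1 hq' ((hθ q hq).2.trans h)
  refine ⟨θ, ⟨fun q hq => (hθ q hq).1, ?_, ?_, ?_, ?_⟩, θeq x hx x' hx' hex, fun v hv => ?_⟩
  · intro p hp q hq h
    refine pr_inj hs hp hq (e.injective ?_)
    rw [← (hθ p hp).2, ← (hθ q hq).2, h]
  · intro y hy
    have h : pr D' a' y ∈ e '' Dq D a := by rw [he]; exact pr_mem hy
    obtain ⟨q, hq, hq'⟩ := h
    rw [← image_nb_pr] at hq
    obtain ⟨q, hq₀, rfl⟩ := hq
    exact ⟨q, hq₀, θeq q hq₀ y hy hq'⟩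
  · intro p hp q hq
    rw [← pr_comm hD' (hθ p hp).1 (hθ q hq).1, (hθ p hp).2, (hθ q hq).2, ← pr_comm hD hp hq]
    exact ⟨fun h => by simpa using h.map e.symm.toMonoidHom, fun h => h.map e.toMonoidHom⟩
  · intro p hp q hq
    have mp := mem_Hd hp
    have mq := mem_Hd hq
    have mp' := mem_Hd (hθ p hp).1
    have mq' := mem_Hd (hθ q hq).1
    refine θeq _ (conj_mem_nb2 hD hp hq) _ (conj_mem_nb2 hD' (hθ p hp).1 (hθ q hq).1) ?_
    rw [pr_mul (mul_mem mp mq) mp, pr_mul mp mq, pr_mul (mul_mem mp' mq') mp', pr_mul mp' mq',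
      (hθ p hp).2, (hθ q hq).2, map_mul, map_mul]
  · refine θeq _ (g.mem v hv).1 _ (g'.mem v hv).1 ?_
    rw [← g.toCoord_f hD hs hx, heq _ ((g.toCoord hD hs hx).mem v hv), hθ₀f v hv,
      BCoord.toCoord_f]

/-- Maps between the neighbourhoods of two commuting members agreeing on their common neighbours. -/
theorem exists_balls {a x : G} {a' x' : G'} (ha : a ∈ D) (hx : x ∈ nb D a) (ha' : a' ∈ D')
    (hx' : x' ∈ nb D' a') :
    ∃ θ φ : G → G', IsBall D a D' a' θ ∧ IsBall D x D' x' φ ∧ θ x = x' ∧ φ a = a' ∧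
      ∀ q ∈ nb D a ∩ nb D x, φ q = θ q := by
  have hxa := mem_nb_symm ha hx
  have hxa' := mem_nb_symm ha' hx'
  obtain ⟨z, hz, hxz⟩ := exists_far_nb hD hprim h23 ha hx
  obtain ⟨w, hw, haw⟩ := exists_far_nb hD hprim h23 hx.1 hxa
  obtain ⟨z', hz', hxz'⟩ := exists_far_nb hD' hprim' h23' ha' hx'
  obtain ⟨w', hw', haw'⟩ := exists_far_nb hD' hprim' h23' hx'.1 hxa'
  obtain ⟨g, hg⟩ := exists_std_bcoord hD hprim h23 ha hx hz hxz
  obtain ⟨S, hS⟩ := exists_sim hD hprim h23 ha hx hw haw g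
  obtain ⟨g₀, hg₀⟩ := exists_std_bcoord hD' hprim' h23' ha' hx' hz' hxz'
  obtain ⟨S₀, hS₀⟩ := exists_sim hD' hprim' h23' ha' hx' hw' haw' g₀
  have hd := det_ne_one hD hprim h23 ha hx hz hxz hw haw g hg S hS
  have hd₀ := det_ne_one hD' hprim' h23' ha' hx' hz' hxz' hw' haw' g₀ hg₀ S₀ hS₀
  obtain ⟨g', S', hg', hS', hdet⟩ : ∃ (g' : BCoord D' a' x') (S' : Sim),
      (∀ v, Pt v → (g'.f v ∈ nb D' z' ↔ Std v)) ∧
      (∀ v, Pt v → (g'.f (S'.T v) ∈ nb D' w' ↔ Std v)) ∧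
      (simMat S).det = (simMat S').det := by
    by_cases e : (simMat S).det = (simMat S₀).det
    · exact ⟨g₀, S₀, hg₀, hS₀, e⟩
    refine ⟨g₀.comp frobSim, S₀.trans frobSim, fun v hv => ?_, fun v hv => ?_, ?_⟩
    · rw [BCoord.comp_f, hg₀ _ (frobSim.pt hv), std_frob]
    · rw [BCoord.comp_f, Sim.trans_apply, ← hS₀ v hv]
      have h2 : frobSim.T (frobSim.T (S₀.T v)) = S₀.T v := funext fun i => by
        rw [frobSim_apply, frobSim_apply, sq_sq]
      rw [h2]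
    · rw [frobSim_det]
      have h1 := simMat_det S
      have h2 := simMat_det S₀
      revert e hd hd₀ h1 h2
      generalize (simMat S).det = p
      generalize (simMat S₀).det = q
      revert p q
      decide
  obtain ⟨k, hk⟩ := exists_align S S' hdet
  obtain ⟨h', hh', hhk⟩ := g'.realize hD' k
  obtain ⟨hha, hhx⟩ := closure_commute hh'
  obtain ⟨θ, hθ, hθx, hθg⟩ := exists_side hD hprim h23 hD' hprim' h23' ha hx hz hxz ha' hx' hz'
    hxz' g g' fun v hv => (hg v hv).trans (hg' v hv).symm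
  have hw₁ : h' * w' * h'⁻¹ ∈ nb D' x' := M22.Chart.conj_mem_nb hD' hhx hw'
  have haw₁ : ¬ Commute a' (h' * w' * h'⁻¹) := fun e => haw' (by
    refine (Basic.commute_conj (g := h')).1 ?_
    rwa [RankThree.conj_self_of_commute hha.symm])
  have hSS : ∀ u, Pt u → (g.symm.f u ∈ nb D w ↔ g'.symm.f u ∈ nb D' (h' * w' * h'⁻¹)) := by
    intro u hu
    rw [BCoord.symm_f, BCoord.symm_f]
    obtain ⟨v, rfl⟩ := S.T.surjective u
    have hv := S.pt_iff.1 hu
    obtain ⟨u', hu', hstd, he⟩ := hk v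
    rw [hS v hv, ← hstd, ← hS' u' (hu' hv), he, ← hhk _ (S'.pt (hu' hv))]
    constructor
    · exact conj_nb hD' h'
    · intro h
      have := conj_nb hD' h'⁻¹ h
      simpa [mul_assoc] using this
  obtain ⟨φ, hφ, hφa, hφg⟩ := exists_side hD hprim h23 hD' hprim' h23' hx.1 hxa hw haw hx'.1 hxa'
    hw₁ haw₁ g.symm g'.symm hSS
  refine ⟨θ, φ, hθ, hφ, hθx, hφa, fun q hq => ?_⟩
  obtain ⟨v, hv, rfl⟩ := g.cover q hq
  rw [hθg v hv]
  exact hφg v hv

end Cfsg.Agent.GenA.T23.L.Iso
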