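import Cfsg.Agent.GenA.T23.Iso.Balls

/-!
A map on the common neighbours of an edge in a neighbourhood is determined up to conjugation by the
central member.
-/

set_option autoImplicit false
set_option linter.unusedSectionVars false

namespace Cfsg.Agent.GenA.T23.L.Iso

open Cfsg.Agent.ThreeTransp.M23Iso

open Matrix
open Cfsg.Agent.Classical.Unitary
open Cfsg.Agent.InvChar.Coset (FF)
open Cfsg.Agent.ThreeTransp
open Cfsg.Agent.ThreeTransp.M22Iso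
open Cfsg.Agent.ThreeTransp.Factor (nb Hd Sd Dq Sep mem_Hd Hd_commute)
open Cfsg.Agent.ThreeTransp.Cover (mem_nb_symm conj_nb)
open Cfsg.Agent.GenA.Tower (pr pr_mem pr_mul pr_comm pr_nb pr_inj image_nb_pr)

local notation "H" => Cfsg.hermForm 6 FF 2
local notation "A₀" => pl 0 1 (1 : FF)
local notation "B₀" => pl 0 1 FF.w

universe u v

variable {G : Type u} [Group G] {D : Set G} {G' : Type v} [Group G'] {D' : Set G'}

/-- A pair of elements compatible with the map of neighbourhoods. -/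
structure Sym (D : Set G) (a : G) (a' : G') (θ : G → G') (p : G × G') : Prop where
  fst : Commute p.1 a
  snd : Commute p.2 a'
  conj : ∀ y ∈ nb D a, θ (p.1 * y * p.1⁻¹) = p.2 * θ y * p.2⁻¹

/-- The transport of a map by a pair. -/
def act (p : G × G') (f : G → G') (u : G) : G' := p.2 * f (p.1⁻¹ * u * p.1) * p.2⁻¹

theorem act_mul (p q : G × G') (f : G → G') : act (p * q) f = act p (act q f) := by
  funext u
  simp [act, mul_assoc]

theorem act_one (f : G → G') : act (1 : G × G') f = f := by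
  funext u
  simp [act]

theorem act_conj_apply (p : G × G') (f : G → G') (u : G) :
    act p f (p.1 * u * p.1⁻¹) = p.2 * f u * p.2⁻¹ := by
  rw [act]
  congr 2
  congr 1
  group

/-- An admissible map on the common neighbours of an edge. -/
structure Good (D : Set G) (a : G) (D' : Set G') (a' : G') (θ : G → G') (y₁ y₂ : G)
    (f : G → G') : Prop where
  maps : ∀ u ∈ nb D y₁ ∩ nb D y₂, f u ∈ nb D' (θ y₁) ∩ nb D' (θ y₂)
  out : ∀ u, u ∉ nb D y₁ ∩ nb D y₂ → f u = 1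
  val : f a = a'
  agree : ∀ q ∈ nb D a, q ∈ nb D y₁ ∩ nb D y₂ → f q = θ q
  comm : ∀ u ∈ nb D y₁ ∩ nb D y₂, ∀ v ∈ nb D y₁ ∩ nb D y₂,
    (Commute (f u) (f v) ↔ Commute u v)
  line : ∀ u ∈ nb D y₁ ∩ nb D y₂, ∀ v ∈ nb D y₁ ∩ nb D y₂,
    f (u * v * u) = f u * f v * f u

variable {a : G} {a' : G'} {θ : G → G'}

theorem Good.symm {y₁ y₂ : G} {f : G → G'} (h : Good D a D' a' θ y₁ y₂ f) :
    Good D a D' a' θ y₂ y₁ f where
  maps u hu := ⟨(h.maps u hu.symm).2, (h.maps u hu.symm).1⟩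
  out u hu := h.out u fun h' => hu h'.symm
  val := h.val
  agree q hq hu := h.agree q hq hu.symm
  comm u hu v hv := h.comm u hu.symm v hv.symm
  line u hu v hv := h.line u hu.symm v hv.symm

variable [Finite G] [Finite G'] (hD : Cfsg.IsThreeTranspositionGroup D)
  (hD' : Cfsg.IsThreeTranspositionGroup D')

include hD hD' in
theorem Good.transport {y₁ y₂ : G} {f : G → G'} (h : Good D a D' a' θ y₁ y₂ f) {p : G × G'}
    (hp : Sym D a a' θ p) (h₁ : y₁ ∈ nb D a) (h₂ : y₂ ∈ nb D a) :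
    Good D a D' a' θ (p.1 * y₁ * p.1⁻¹) (p.1 * y₂ * p.1⁻¹) (act p f) := by
  have back : ∀ u, u ∈ nb D (p.1 * y₁ * p.1⁻¹) ∩ nb D (p.1 * y₂ * p.1⁻¹) ↔
      p.1⁻¹ * u * p.1 ∈ nb D y₁ ∩ nb D y₂ := by
    intro u
    constructor
    · intro hu
      have k1 := conj_nb hD p.1⁻¹ hu.1
      have k2 := conj_nb hD p.1⁻¹ hu.2
      simp only [inv_inv] at k1 k2
      rw [show p.1⁻¹ * (p.1 * y₁ * p.1⁻¹) * p.1 = y₁ by group] at k1
      rw [show p.1⁻¹ * (p.1 * y₂ * p.1⁻¹) * p.1 = y₂ by group] at k2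
      exact ⟨k1, k2⟩
    · intro hu
      have k1 := conj_nb hD p.1 hu.1
      have k2 := conj_nb hD p.1 hu.2
      rw [show p.1 * (p.1⁻¹ * u * p.1) * p.1⁻¹ = u by group] at k1 k2
      exact ⟨k1, k2⟩
  have hinv : Commute p.1⁻¹ a := hp.fst.inv_left
  refine ⟨fun u hu => ?_, fun u hu => ?_, ?_, fun q hq hu => ?_, fun u hu v hv => ?_,
    fun u hu v hv => ?_⟩
  · rw [hp.conj y₁ h₁, hp.conj y₂ h₂]
    have h' := h.maps _ ((back u).1 hu)
    exact ⟨conj_nb hD' p.2 h'.1, conj_nb hD' p.2 h'.2⟩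
  · rw [act, h.out _ fun h' => hu ((back u).2 h'), mul_one, mul_inv_cancel]
  · rw [act, show p.1⁻¹ * a * p.1 = a by rw [hinv.eq, inv_mul_cancel_right], h.val, hp.snd.eq,
      mul_inv_cancel_right]
  · have hq' : p.1⁻¹ * q * p.1 ∈ nb D a := by
      simpa using M22.Chart.conj_mem_nb hD hinv hq
    have e := hp.conj _ hq'
    rw [show p.1 * (p.1⁻¹ * q * p.1) * p.1⁻¹ = q by group] at e
    rw [act, h.agree _ hq' ((back q).1 hu), e]
  · rw [act, act, Basic.commute_conj, h.comm _ ((back u).1 hu) _ ((back v).1 hv)]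
    have := Basic.commute_conj (g := p.1⁻¹) (a := u) (b := v)
    simpa using this
  · simp only [act]
    rw [show p.1⁻¹ * (u * v * u) * p.1 =
      (p.1⁻¹ * u * p.1) * (p.1⁻¹ * v * p.1) * (p.1⁻¹ * u * p.1) by group,
      h.line _ ((back u).1 hu) _ ((back v).1 hv)]
    group

theorem sym_center (ha' : ∀ q ∈ nb D a, θ q ∈ nb D' a') :
    Sym D a a' θ (1, a') :=
  ⟨Commute.one_left _, Commute.refl _, fun y hy => by
    show θ (1 * y * 1⁻¹) = a' * θ y * a'⁻¹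
    rw [one_mul, inv_one, mul_one, (ha' y hy).2.2.eq, mul_inv_cancel_right]⟩

theorem tau_frame : τ (pl 0 1 (1 : FF)) (pl 0 1 FF.w) = FF.w • pl 0 1 FF.w2 := by decide +kernel

theorem two_cases : ∀ p q : FF, p ^ 3 + q ^ 3 = 0 → p + q ≠ 0 →
    p ≠ 0 ∧ ∃ l : FF, (l = FF.w ∨ l = FF.w2) ∧ q = p * l := by decide

section Rigid

variable (hprim : Cfsg.IsPrimitiveUnderConj D) (h23 : Cfsg.Agent.GenA.T23.L.L23 D)
  (hprim' : Cfsg.IsPrimitiveUnderConj D') (h23' : Cfsg.Agent.GenA.T23.L.L23 D')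
  (ha : a ∈ D) (ha' : a' ∈ D') (hθ : IsBall D a D' a' θ)
  {y₁ y₂ : G} (h₁ : y₁ ∈ nb D a) (h₂ : y₂ ∈ nb D a ∩ nb D y₁)
include hD hprim h23 ha h₁ h₂

/-- A common neighbour of an edge outside the neighbourhood. -/
theorem exists_far_edge : ∃ c ∈ nb D y₁ ∩ nb D y₂, ¬ Commute a c := by
  by_contra! h
  have h693 := GenA.T23.L.M23.ncard_one hD hprim h23 h₁.1 h₂.2
  have h180 := GenA.T23.L.M23.ncard_adj hD hprim h23 ha h₁ h₂.1 h₂.2.2.1.symm h₂.2.2.2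
  have hsub : nb D y₁ ∩ nb D y₂ ⊆ insert a (nb D a ∩ nb D y₁ ∩ nb D y₂) := fun u hu => by
    by_cases e : u = a
    · exact Or.inl e
    · exact Or.inr ⟨⟨⟨hu.1.1, e, h u hu⟩, hu.1⟩, hu.2⟩
  have := (Set.ncard_le_ncard hsub (Set.toFinite _)).trans (Set.ncard_insert_le _ _)
  omega

/-- Two admissible maps agreeing at one outer point are equal. -/
theorem Good.eq_of_eq {f₁ f₂ : G → G'} (g₁ : Good D a D' a' θ y₁ y₂ f₁)
    (g₂ : Good D a D' a' θ y₁ y₂ f₂) {c : G} (hc : c ∈ nb D y₁ ∩ nb D y₂) (hac : ¬ Commute a c)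
    (e : f₂ c = f₁ c) : f₂ = f₁ := by
  funext u
  by_cases hu : u ∈ nb D y₁ ∩ nb D y₂
  swap
  · rw [g₁.out u hu, g₂.out u hu]
  have hmem : ∀ q ∈ nb D y₁ ∩ nb D y₂, Commute a q → f₂ q = f₁ q := by
    intro q hq haq
    by_cases eq : q = a
    · rw [eq, g₁.val, g₂.val]
    · rw [g₁.agree q ⟨hq.1.1, eq, haq⟩ hq, g₂.agree q ⟨hq.1.1, eq, haq⟩ hq]
  by_cases hau : Commute a u
  · exact hmem u hu hau
  have hs := GenA.T23.L.M23.sep hD hprim h23 h₁.1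
  have hg := GenA.T23.L.M23.grp hD hprim h23 h₁.1
  obtain ⟨C⟩ := exists_coord hg (GenA.T23.L.M23.t22 hD hprim h23 h₁.1) (pr_mem h₂.2)
  have haW : a ∈ nb D y₁ ∩ nb D y₂ := ⟨mem_nb_symm ha h₁, mem_nb_symm ha h₂.1⟩
  obtain ⟨A, hA, eA⟩ := C.cover _ ((pr_nb hD hs h₂.2 haW.1).2 haW.2)
  obtain ⟨v, hv, ev⟩ := C.cover _ ((pr_nb hD hs h₂.2 hc.1).2 hc.2)
  obtain ⟨w, hw, ew⟩ := C.cover _ ((pr_nb hD hs h₂.2 hu.1).2 hu.2)
  obtain ⟨h, hh, ehw⟩ := C.trans hg hA hv hw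
    (fun z => hac ((pr_comm hD haW.1 hc.1).1 (by rw [← eA, ← ev]; exact (C.comm_iff A v hA hv).2 z)))
    (fun z => hau ((pr_comm hD haW.1 hu.1).1 (by rw [← eA, ← ew]; exact (C.comm_iff A w hA hw).2 z)))
  rw [eA] at hh
  have P : ∀ d ∈ nb D y₁ ∩ nb D y₂, f₂ d = f₁ d → ∃ d' ∈ nb D y₁ ∩ nb D y₂,
      pr D y₁ d' = h * pr D y₁ d * h⁻¹ ∧ f₂ d' = f₁ d' := by
    clear ehw
    induction hh using Subgroup.closure_induction'' with
    | mem p hp =>
      intro d hd he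
      obtain ⟨q, hq, rfl⟩ : p ∈ pr D y₁ '' (nb D y₁ ∩ nb D y₂) := by
        rw [GenA.Tower.image_one hD hs h₂.2]; exact hp.1
      have haq : Commute a q := ((pr_comm hD hq.1 haW.1).1 hp.2).symm
      refine ⟨q * d * q, conj_mem_inter hD hq hd, ?_, ?_⟩
      · rw [pr_mul (mul_mem (mem_Hd hq.1) (mem_Hd hd.1)) (mem_Hd hq.1),
          pr_mul (mem_Hd hq.1) (mem_Hd hd.1), Classes.inv hg (pr_mem hq.1)]
      · rw [g₁.line q hq d hd, g₂.line q hq d hd, he, hmem q hq haq]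
    | inv_mem p hp =>
      intro d hd he
      obtain ⟨q, hq, rfl⟩ : p ∈ pr D y₁ '' (nb D y₁ ∩ nb D y₂) := by
        rw [GenA.Tower.image_one hD hs h₂.2]; exact hp.1
      have haq : Commute a q := ((pr_comm hD hq.1 haW.1).1 hp.2).symm
      refine ⟨q * d * q, conj_mem_inter hD hq hd, ?_, ?_⟩
      · rw [pr_mul (mul_mem (mem_Hd hq.1) (mem_Hd hd.1)) (mem_Hd hq.1),
          pr_mul (mem_Hd hq.1) (mem_Hd hd.1), inv_inv, Classes.inv hg (pr_mem hq.1)]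
      · rw [g₁.line q hq d hd, g₂.line q hq d hd, he, hmem q hq haq]
    | one => exact fun d hd he => ⟨d, hd, by simp, he⟩
    | mul p q _ _ hp hq =>
      intro d hd he
      obtain ⟨d₁, hd₁, e₁, f₁'⟩ := hq d hd he
      obtain ⟨d₂, hd₂, e₂, f₂'⟩ := hp d₁ hd₁ f₁'
      exact ⟨d₂, hd₂, by rw [e₂, e₁]; group, f₂'⟩
  obtain ⟨d', hd', e', ef⟩ := P c hc e
  rw [← ev, ehw, ew] at e'
  rwa [← pr_inj hs hd'.1 hu.1 e']

include hD' hprim' h23' ha' hθ

/-- An admissible map is one of two. -/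
theorem Good.unique {f₁ f₂ : G → G'} (g₁ : Good D a D' a' θ y₁ y₂ f₁)
    (g₂ : Good D a D' a' θ y₁ y₂ f₂) : f₂ = f₁ ∨ f₂ = act (1, a') f₁ := by
  obtain ⟨c, hc, hac⟩ := exists_far_edge hD hprim h23 ha h₁ h₂
  have haW : a ∈ nb D y₁ ∩ nb D y₂ := ⟨mem_nb_symm ha h₁, mem_nb_symm ha h₂.1⟩
  have m1 := hθ.maps y₁ h₁
  have m2 := hθ.maps y₂ h₂.1
  have h12 : θ y₂ ∈ nb D' (θ y₁) :=
    ⟨m2.1, fun e => h₂.2.2.1 (hθ.inj _ h₂.1 _ h₁ e), (hθ.comm _ h₁ _ h₂.1).2 h₂.2.2.2⟩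
  have hs' := GenA.T23.L.M23.sep hD' hprim' h23' m1.1
  have n1 := g₁.maps c hc
  have n2 := g₂.maps c hc
  have a1 : a' ∈ nb D' (θ y₁) := mem_nb_symm ha' m1
  have a2 : a' ∈ nb D' (θ y₂) := mem_nb_symm ha' m2
  have nac : ∀ {f : G → G'}, Good D a D' a' θ y₁ y₂ f → ¬ Commute a' (f c) := fun {f} g e =>
    hac ((g.comm a haW c hc).1 (by rw [g.val]; exact e))
  obtain ⟨C, hCA, hCB⟩ := exists_framed (GenA.T23.L.M23.grp hD' hprim' h23' m1.1)
    (GenA.T23.L.M23.t22 hD' hprim' h23' m1.1) (pr_mem h12)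
    ((pr_nb hD' hs' h12 a1).2 a2) ((pr_nb hD' hs' h12 n1.1).2 n1.2)
    (fun e => nac g₁ ((pr_comm hD' a1 n1.1).1 e))
  obtain ⟨g, hg⟩ := BCoord.ofCoord hD' hs' h12 C
  have hgA : g.f A₀ = a' := pr_inj hs' (g.mem _ A₀_pt).1 a1 (by rw [hg _ A₀_pt, hCA])
  have hgB : g.f B₀ = f₁ c := pr_inj hs' (g.mem _ B₀_pt).1 n1.1 (by rw [hg _ B₀_pt, hCB])
  obtain ⟨v, hv, hgv⟩ := g.cover _ n2
  have hperp : ∀ z, WPt z → H v z = 0 := by
    intro z hz
    have hza : Commute (g.f z) a' := by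
      rw [← hgA, g.comm_iff _ _ hz.1 A₀_pt, H_A₀, hz.2.1, hz.2.2, add_zero]
    have hzc : Commute (g.f z) (f₁ c) := by
      rw [← hgB, g.comm_iff _ _ hz.1 B₀_pt, H_pl, hz.2.1, hz.2.2, mul_zero, add_zero]
    have hzn : g.f z ≠ a' := fun e => nac g₁ (e ▸ hzc)
    obtain ⟨q, hq, eq⟩ := hθ.surj (g.f z) ⟨(g.mem z hz.1).1.1, hzn, hza.symm⟩
    have hqW : q ∈ nb D y₁ ∩ nb D y₂ := by
      have hm := g.mem z hz.1
      rw [← eq] at hm
      exact ⟨⟨hq.1, fun e => hm.1.2.1 (by rw [e]), (hθ.comm _ h₁ _ hq).1 hm.1.2.2⟩,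
        hq.1, fun e => hm.2.2.1 (by rw [e]), (hθ.comm _ h₂.1 _ hq).1 hm.2.2.2⟩
    have hqc : Commute q c := (g₁.comm q hqW c hc).1 (by rw [g₁.agree q hq hqW, eq]; exact hzc)
    have h2 := (g₂.comm q hqW c hc).2 hqc
    rw [g₂.agree q hq hqW, eq, ← hgv] at h2
    exact (g.comm_iff v z hv hz.1).1 h2.symm
  have hplane : ∀ i j : Fin 6, i ≠ j → 2 ≤ (i : ℕ) → 2 ≤ (j : ℕ) → v i = 0 ∧ v j = 0 := by
    intro i j hij hi hj
    have one : ∀ l : FF, l ≠ 0 → v i + l ^ 2 * v j = 0 := fun l hl => by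
      rw [← H_pl]
      exact hperp _ (pl_wpt hij hi hj hl)
    have e1 := one 1 one_ne_zero
    rw [one_pow, one_mul] at e1
    exact pair_cases _ _ e1 (one FF.w (by decide))
  obtain ⟨z2, z3⟩ := hplane 2 3 (by decide) (by decide) (by decide)
  obtain ⟨z4, z5⟩ := hplane 4 5 (by decide) (by decide) (by decide)
  have h3 : v 0 ^ 3 + v 1 ^ 3 = 0 := by
    have h' := hv.2
    rw [Cfsg.hermForm, Fin.sum_univ_six, z2, z3, z4, z5] at h'
    linear_combination h'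
  obtain ⟨hp, l, hl, hq⟩ := two_cases _ _ h3 fun e => nac g₂ (by
    rw [← hgv, ← hgA]
    exact ((g.comm_iff v A₀ hv A₀_pt).2 (by rw [H_A₀, e])).symm)
  have hvl : v = v 0 • pl 0 1 l := by
    funext i
    fin_cases i <;> simp [pl, z2, z3, z4, z5, hq]
  have hl0 : l ≠ 0 := by rcases hl with rfl | rfl <;> decide
  rw [hvl, g.smul_eq (pl_pt (by decide) hl0) hp] at hgv
  rcases hl with rfl | rfl
  · left
    exact Good.eq_of_eq hD hprim h23 ha h₁ h₂ g₁ g₂ hc hac (hgv.symm.trans hgB)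
  · right
    have g1' : Good D a D' a' θ y₁ y₂ (act (1, a') f₁) := by
      have := g₁.transport hD hD' (sym_center (fun q hq => hθ.maps q hq)) h₁ h₂.1
      simpa using this
    refine Good.eq_of_eq hD hprim h23 ha h₁ h₂ g1' g₂ hc hac ?_
    have e := g.line _ _ A₀_pt B₀_pt
    rw [tau_frame, g.smul_eq (pl_pt (by decide) (by decide)) (by decide), hgA, hgB] at e
    rw [← hgv, ← e]
    simp [act, Classes.inv hD' ha']

/-- Conjugation by the central member moves every admissible map. -/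
theorem Good.act_ne {f : G → G'} (g : Good D a D' a' θ y₁ y₂ f) : act (1, a') f ≠ f := by
  intro e
  obtain ⟨c, hc, hac⟩ := exists_far_edge hD hprim h23 ha h₁ h₂
  have h := congrFun e c
  simp only [act, inv_one, one_mul, mul_one] at h
  exact hac ((g.comm a ⟨mem_nb_symm ha h₁, mem_nb_symm ha h₂.1⟩ c hc).1
    (by rw [g.val]; exact mul_inv_eq_iff_eq_mul.1 h))

end Rigid

end Cfsg.Agent.GenA.T23.L.Iso
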