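import Cfsg.Agent.GenA.Tower.Proj
import Cfsg.Agent.GenA.Tower.Inner22
import Cfsg.Agent.Lib.ThreeTransp.M22.Graph
import Cfsg.Agent.GenA.Tower.Facts23
import Cfsg.Agent.GenA.T23.Iso.Base

/-!
The numbers seen from one member of a group of type M(23).
-/

set_option autoImplicit false
set_option linter.unusedSectionVars false

namespace Cfsg.Agent.GenA.T23.L.M23

open Cfsg.Agent.GenA.Tower
open Cfsg.Agent.ThreeTransp
open Cfsg.Agent.ThreeTransp.Factor (nb Hd Sd Dl Dq Sep mem_Hd grp_Dl closure_Dq)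

universe u

variable {G : Type u} [Group G] {D : Set G}

variable [Finite G] (hD : Cfsg.IsThreeTranspositionGroup D)
  (hprim : Cfsg.IsPrimitiveUnderConj D) (h23 : Cfsg.Agent.GenA.T23.L.L23 D)
include hD hprim h23

theorem t22 {a : G} (ha : a ∈ D) : Cfsg.IsOfTypeM22 (Sd D a) (Dq D a) :=
  h23.2 _ ha

theorem hex : ∀ a ∈ D, Cfsg.pCore 2 (Sd D a) = ⊥ ∧ Nontrivial (Sd D a) := fun _ ha =>
  hex22 (grp_strip hD _) (Factor.strip_one (t22 hD hprim h23 ha))

theorem sep {a : G} (ha : a ∈ D) : Sep D a :=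
  (core_at hD hprim h23.1 (hex hD hprim h23) ha).2.2

theorem grp {a : G} (ha : a ∈ D) : Cfsg.IsThreeTranspositionGroup (Dq D a) :=
  local_grp hD hprim h23.1 (hex hD hprim h23) ha

theorem exists_comm : ∃ a ∈ D, ∃ b ∈ D, a ≠ b ∧ Commute a b :=
  exists_commuting hD hprim h23.1 (hex hD hprim h23)

theorem inner : ∀ a ∈ D, Inner (Dq D a) := fun _ ha =>
  inner22 (grp hD hprim h23 ha) (t22 hD hprim h23 ha)

theorem prim {a : G} (ha : a ∈ D) : Cfsg.IsPrimitiveUnderConj (Dq D a) :=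
  local_prim hD hprim h23.1 (hex hD hprim h23) (inner hD hprim h23) ha

theorem ncard_nb {a : G} (ha : a ∈ D) : (nb D a).ncard = 3510 := by
  rw [← ncard_pr (sep hD hprim h23 ha) (subset_refl _), image_nb_pr,
    M22.ncard_class (grp hD hprim h23 ha) (prim hD hprim h23 ha) (t22 hD hprim h23 ha)]

theorem ncard_one {a x : G} (ha : a ∈ D) (hx : x ∈ nb D a) :
    (nb D a ∩ nb D x).ncard = 693 := by
  have hs := sep hD hprim h23 ha
  rw [← ncard_pr hs Set.inter_subset_left, image_one hD hs hx,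
    M22.ncard_nb (grp hD hprim h23 ha) (prim hD hprim h23 ha) (t22 hD hprim h23 ha) (pr_mem hx)]

theorem ncard_adj {a x z : G} (ha : a ∈ D) (hx : x ∈ nb D a) (hz : z ∈ nb D a) (hne : x ≠ z)
    (hc : Commute x z) : (nb D a ∩ nb D x ∩ nb D z).ncard = 180 := by
  have hs := sep hD hprim h23 ha
  rw [← ncard_pr hs (Set.inter_subset_left.trans Set.inter_subset_left), image_two hD hs hx hz,
    M22.ncard_nb_inter (grp hD hprim h23 ha) (prim hD hprim h23 ha) (t22 hD hprim h23 ha)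
      (pr_mem hx) ((pr_nb hD hs hx hz).2 ⟨hz.1, hne.symm, hc⟩)]

theorem ncard_cross {a x z : G} (ha : a ∈ D) (hx : x ∈ nb D a) (hz : z ∈ nb D a)
    (hc : ¬ Commute x z) : (nb D a ∩ nb D x ∩ nb D z).ncard = 126 := by
  have hs := sep hD hprim h23 ha
  rw [← ncard_pr hs (Set.inter_subset_left.trans Set.inter_subset_left), image_two hD hs hx hz,
    M22.ncard_inter (grp hD hprim h23 ha) (prim hD hprim h23 ha) (t22 hD hprim h23 ha)
      (pr_mem hx) (pr_mem hz) fun h => hc ((pr_comm hD hx hz).1 h)]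

/-- A non-commuting pair and one of its common neighbours, inside the neighbourhood of `a`. -/
theorem ncard_four {a x z y : G} (ha : a ∈ D) (hx : x ∈ nb D a) (hz : z ∈ nb D a)
    (hc : ¬ Commute x z) (hy : y ∈ nb D a ∩ nb D x ∩ nb D z) :
    (nb D a ∩ nb D x ∩ nb D z ∩ nb D y).ncard = 45 := by
  have hs := sep hD hprim h23 ha
  rw [← ncard_pr hs ((Set.inter_subset_left.trans Set.inter_subset_left).trans
    Set.inter_subset_left), image_three hD hs hx hz hy.1.1,
    M22.inner_degree (grp hD hprim h23 ha) (prim hD hprim h23 ha) (t22 hD hprim h23 ha)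
      (pr_mem hx) (pr_mem hz) (fun h => hc ((pr_comm hD hx hz).1 h))
      ⟨(pr_nb hD hs hx hy.1.1).2 hy.1.2, (pr_nb hD hs hz hy.1.1).2 hy.2⟩]

theorem exists_inner {a x y : G} (ha : a ∈ D) (hx : x ∈ nb D a) (hy : y ∈ nb D a)
    (hxy : ¬ Commute x y) : (nb D a ∩ (nb D x ∩ nb D y)).Nonempty :=
  Tower.exists_inner hD hprim h23.1 (hex hD hprim h23) (inner hD hprim h23) ha hx hy hxy


end Cfsg.Agent.GenA.T23.L.M23
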