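import Cfsg.Agent.GenA.T23.Iso.Main
import Cfsg.Agent.Lib.ThreeTransp.FarPair
import Cfsg.Agent.Lib.ThreeTransp.M22.PairClique

/-!
The joint centraliser of two non-commuting members in a group of type M(23).
-/

set_option autoImplicit false
set_option linter.unusedSectionVars false

namespace Cfsg.Agent.GenA.T23.L.Far

open Cfsg.Agent.ThreeTransp
open Cfsg.Agent.ThreeTransp.Factor (nb Hd Sd Dq mem_Hd)
open Cfsg.Agent.ThreeTransp.Cover (mem_nb_symm conj_nb)
open Cfsg.Agent.GenA.Tower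

universe u

variable {G : Type u} [Group G] [Finite G] {D : Set G} (hD : Cfsg.IsThreeTranspositionGroup D)
  (hprim : Cfsg.IsPrimitiveUnderConj D) (h23 : Cfsg.Agent.GenA.T23.L.L23 D)
  {a d : G} (ha : a ∈ D) (hd : d ∈ D) (hnc : ¬ Commute a d)
include hD hprim h23 ha hd hnc

theorem pair_ncard : (nb D a ∩ nb D d).ncard = 351 :=
  GenA.T23.L.M23.ncard_inter hD hprim h23 ha hd hnc

/-- Only the three members of the line commute with all common neighbours. -/
theorem hull {b : G} (hb : b ∈ D) (hc : ∀ t ∈ nb D a ∩ nb D d, Commute b t) :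
    b = a ∨ b = d ∨ b = a * d * a := by
  obtain ⟨w, hw⟩ : (nb D a ∩ nb D d).Nonempty :=
    Set.nonempty_of_ncard_ne_zero (by rw [pair_ncard hD hprim h23 ha hd hnc]; norm_num)
  have hbw : b ≠ w := by
    intro e
    subst e
    have hsub : (nb D a ∩ nb D d) \ {b} ⊆ nb D a ∩ nb D d ∩ nb D b :=
      fun t ht => ⟨ht.1, ht.1.1.1, ht.2, hc t ht.1⟩
    have h1 := Set.ncard_le_ncard hsub
    rw [Set.ncard_sdiff_singleton_of_mem hw, pair_ncard hD hprim h23 ha hd hnc,
      GenA.T23.L.M23.inner_degree hD hprim h23 ha hd hnc hw] at h1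
    omega
  have hs := GenA.T23.L.M23.sep hD hprim h23 hw.1.1
  have an : a ∈ nb D w := mem_nb_symm ha hw.1
  have cn : d ∈ nb D w := mem_nb_symm hd hw.2
  have bn : b ∈ nb D w := ⟨hb, hbw, (hc w hw).symm⟩
  have key := hull22 (GenA.T23.L.M23.grp hD hprim h23 hw.1.1)
    (GenA.T23.L.M23.prim hD hprim h23 hw.1.1) (GenA.T23.L.M23.t22 hD hprim h23 hw.1.1)
    (pr_mem an) (pr_mem cn) (fun h => hnc ((pr_comm hD an cn).1 h)) (pr_mem bn) (by
      intro t ht
      obtain ⟨t, ⟨⟨htw, hta⟩, htc⟩, rfl⟩ :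
          t ∈ pr D w '' (nb D w ∩ nb D a ∩ nb D d) := by
        rw [image_two hD hs an cn]; exact ht
      exact (pr_comm hD bn htw).2 (hc t ⟨hta, htc⟩))
  rcases key with h | h | h
  · exact Or.inl (pr_inj hs bn an h)
  · exact Or.inr (Or.inl (pr_inj hs bn cn h))
  · right; right
    have hada : a * d * a ∈ nb D w := by
      have := conj_fix_nb hD (RankThree.conj_self_of_commute an.2.2) cn
      rwa [Classes.inv hD ha] at this
    rw [← pr_mul (mem_Hd an) (mem_Hd cn),
      ← pr_mul (mul_mem (mem_Hd an) (mem_Hd cn)) (mem_Hd an)] at h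
    exact pr_inj hs bn hada h

end Cfsg.Agent.GenA.T23.L.Far
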