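import Cfsg.Agent.GenA.T23.Iso.Cover
import Cfsg.Agent.GenA.T23.Iso.Far

/-!
Two groups of type M(23) are isomorphic by an isomorphism carrying one class to the other.
-/

set_option autoImplicit false
set_option linter.unusedSectionVars false

namespace Cfsg.Agent.GenA.T23.L.Iso

open Cfsg.Agent.ThreeTransp.M23Iso

open Cfsg.Agent.ThreeTransp
open Cfsg.Agent.ThreeTransp.M22Iso
open Cfsg.Agent.ThreeTransp.Factor (nb Hd Sd Dq Sep mem_Hd Hd_commute)
open Cfsg.Agent.ThreeTransp.Cover (mem_nb_symm conj_nb)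

universe u v

variable {G : Type u} [Group G] [Finite G] {D : Set G}
  (hD : Cfsg.IsThreeTranspositionGroup D) (hprim : Cfsg.IsPrimitiveUnderConj D)
  (h23 : Cfsg.Agent.GenA.T23.L.L23 D)
  {G' : Type v} [Group G'] [Finite G'] {D' : Set G'}
  (hD' : Cfsg.IsThreeTranspositionGroup D')
  (hprim' : Cfsg.IsPrimitiveUnderConj D') (h23' : Cfsg.Agent.GenA.T23.L.L23 D')
include hD hprim h23 hD' hprim' h23'

/-- Uniqueness. -/
theorem exists_iso : ∃ e : G ≃* G', e '' D = D' := by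
  classical
  obtain ⟨a, ha, -⟩ := id hprim.2.1
  obtain ⟨a', ha', -⟩ := id hprim'.2.1
  obtain ⟨x, hx⟩ := Set.nonempty_of_ncard_ne_zero
    ((GenA.T23.L.M23.ncard_nb hD hprim h23 ha).trans_ne (by norm_num : (3510 : ℕ) ≠ 0))
  obtain ⟨x', hx'⟩ := Set.nonempty_of_ncard_ne_zero
    ((GenA.T23.L.M23.ncard_nb hD' hprim' h23' ha').trans_ne (by norm_num : (3510 : ℕ) ≠ 0))
  obtain ⟨θ, φ, hθ, hφ, hθx, hφa, hag⟩ :=
    exists_balls hD hprim h23 hD' hprim' h23' ha hx ha' hx'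
  obtain ⟨ψ, hψq, hsym, hψφ⟩ :=
    exists_local hD hprim h23 hD' hprim' h23' ha ha' hθ hx hφ hθx hφa hag
  have hxa : a ∈ nb D x := mem_nb_symm ha hx
  have ht0 : ∀ y, ∃ h : ↥(Hd D a), y ∈ nb D a → (h : G) * x * (h : G)⁻¹ = y := by
    intro y
    by_cases hy : y ∈ nb D a
    · obtain ⟨g, hg, e⟩ := trans_nb hD hprim h23 ha hx hy
      exact ⟨⟨g, hg⟩, fun _ => e⟩
    · exact ⟨1, fun h => absurd h hy⟩
  choose t ht using ht0
  obtain ⟨F, hF⟩ : ∃ F : G → G → G', ∀ y, F y = act ((t y : G), (ψ (t y) : G')) φ :=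
    ⟨_, fun y => rfl⟩
  have nbconj : ∀ (h : ↥(Hd D a)), ∀ y ∈ nb D a, (h : G) * y * (h : G)⁻¹ ∈ nb D a :=
    fun h y hy => M22.Chart.conj_mem_nb hD (Hd_commute h.2).symm hy
  have indep : ∀ h : ↥(Hd D a), ∀ u ∈ nb D x, F ((h : G) * x * (h : G)⁻¹)
      ((h : G) * u * (h : G)⁻¹) = (ψ h : G') * φ u * (ψ h : G')⁻¹ := by
    intro h u hu
    obtain ⟨y, hy⟩ : ∃ y, y = (h : G) * x * (h : G)⁻¹ := ⟨_, rfl⟩
    rw [← hy]
    have hty := ht y (hy ▸ nbconj h x hx)
    obtain ⟨g, hg⟩ : ∃ g : ↥(Hd D a), g = (t y)⁻¹ * h := ⟨_, rfl⟩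
    have hgx : Commute (g : G) x := by
      refine mul_inv_eq_iff_eq_mul.1 ?_
      rw [hg, Subgroup.coe_mul, InvMemClass.coe_inv]
      calc _ = (t y : G)⁻¹ * ((h : G) * x * (h : G)⁻¹) * (t y : G) := by group
        _ = (t y : G)⁻¹ * ((t y : G) * x * (t y : G)⁻¹) * (t y : G) := by rw [← hy, hty]
        _ = x := by group
    have e := hψφ g hgx u hu
    have eh : h = t y * g := by rw [hg, mul_inv_cancel_left]
    rw [hF, eh, map_mul, Subgroup.coe_mul, Subgroup.coe_mul,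
      show (t y : G) * (g : G) * u * ((t y : G) * (g : G))⁻¹ =
        (t y : G) * ((g : G) * u * (g : G)⁻¹) * (t y : G)⁻¹ by group]
    rw [act_conj_apply (((t y : G), (ψ (t y) : G')) : G × G'), e]
    group
  have pre : ∀ y ∈ nb D a, ∀ u ∈ nb D y, ∃ u₀ ∈ nb D x,
      u = (t y : G) * u₀ * (t y : G)⁻¹ ∧ F y u = (ψ (t y) : G') * φ u₀ * (ψ (t y) : G')⁻¹ := by
    intro y hy u hu
    refine ⟨(t y : G)⁻¹ * u * (t y : G), ?_, by group, by rw [hF]; rfl⟩
    have := conj_nb hD (t y : G)⁻¹ hu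
    rwa [inv_inv, show (t y : G)⁻¹ * y * (t y : G) = x by
      conv_lhs => arg 1; arg 2; rw [← ht y hy]
      group] at this
  have equi : ∀ (h : ↥(Hd D a)), ∀ y ∈ nb D a, ∀ u ∈ nb D y,
      F ((h : G) * y * (h : G)⁻¹) ((h : G) * u * (h : G)⁻¹) =
        (ψ h : G') * F y u * (ψ h : G')⁻¹ := by
    intro h y hy u hu
    obtain ⟨u₀, hu₀, eu, eF⟩ := pre y hy u hu
    have e := indep (h * t y) u₀ hu₀
    rw [Subgroup.coe_mul, map_mul, Subgroup.coe_mul,
      show (h : G) * (t y : G) * x * ((h : G) * (t y : G))⁻¹ =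
        (h : G) * ((t y : G) * x * (t y : G)⁻¹) * (h : G)⁻¹ by group, ht y hy,
      show (h : G) * (t y : G) * u₀ * ((h : G) * (t y : G))⁻¹ =
        (h : G) * ((t y : G) * u₀ * (t y : G)⁻¹) * (h : G)⁻¹ by group, ← eu] at e
    rw [e, eF]
    group
  have hθt : ∀ y ∈ nb D a, (ψ (t y) : G') * x' * (ψ (t y) : G')⁻¹ = θ y := fun y hy => by
    rw [← hθx, ← (hsym (t y)).conj x hx, ht y hy]
  have Fball : ∀ y ∈ nb D a, IsBall D y D' (θ y) (F y) := by
    intro y hy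
    refine ⟨fun u hu => ?_, fun u hu w hw e => ?_, fun z hz => ?_, fun u hu w hw => ?_,
      fun u hu w hw => ?_⟩
    · obtain ⟨u₀, hu₀, -, eF⟩ := pre y hy u hu
      rw [eF, ← hθt y hy]
      exact conj_nb hD' _ (hφ.maps u₀ hu₀)
    · obtain ⟨u₀, hu₀, eu, eF⟩ := pre y hy u hu
      obtain ⟨w₀, hw₀, ew, eG⟩ := pre y hy w hw
      rw [eF, eG] at e
      rw [eu, ew, hφ.inj u₀ hu₀ w₀ hw₀ (mul_left_cancel (mul_right_cancel e))]
    · have h1 := conj_nb hD' (ψ (t y) : G')⁻¹ hz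
      rw [inv_inv, ← hθt y hy,
        show (ψ (t y) : G')⁻¹ * ((ψ (t y) : G') * x' * (ψ (t y) : G')⁻¹) * (ψ (t y) : G') = x' by
          group] at h1
      obtain ⟨u₀, hu₀, e⟩ := hφ.surj _ h1
      refine ⟨(t y : G) * u₀ * (t y : G)⁻¹, ?_, ?_⟩
      · have := conj_nb hD (t y : G) hu₀
        rwa [ht y hy] at this
      · rw [hF, act_conj_apply (((t y : G), (ψ (t y) : G')) : G × G'), e]
        group
    · obtain ⟨u₀, hu₀, eu, eF⟩ := pre y hy u hu
      obtain ⟨w₀, hw₀, ew, eG⟩ := pre y hy w hw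
      rw [eF, eG, eu, ew, Basic.commute_conj, Basic.commute_conj, hφ.comm u₀ hu₀ w₀ hw₀]
    · obtain ⟨u₀, hu₀, eu, eF⟩ := pre y hy u hu
      obtain ⟨w₀, hw₀, ew, eG⟩ := pre y hy w hw
      rw [eF, eG, eu, ew, show (t y : G) * u₀ * (t y : G)⁻¹ * ((t y : G) * w₀ * (t y : G)⁻¹) *
        ((t y : G) * u₀ * (t y : G)⁻¹) = (t y : G) * (u₀ * w₀ * u₀) * (t y : G)⁻¹ by group, hF,
        act_conj_apply (((t y : G), (ψ (t y) : G')) : G × G'), hφ.line u₀ hu₀ w₀ hw₀]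
      group
  have Fa : ∀ y ∈ nb D a, F y a = a' := by
    intro y hy
    have hca : (t y : G) * a * (t y : G)⁻¹ = a :=
      RankThree.conj_self_of_commute (Hd_commute (t y).2)
    conv_lhs => arg 2; rw [← hca]
    rw [hF, act_conj_apply (((t y : G), (ψ (t y) : G')) : G × G'), hφa]
    exact RankThree.conj_self_of_commute (Hd_commute (ψ (t y)).2)
  have Fθ : ∀ y ∈ nb D a, ∀ q ∈ nb D a, q ∈ nb D y → F y q = θ q := by
    intro y hy q hq hqy
    obtain ⟨u₀, hu₀, eu, eF⟩ := pre y hy q hqy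
    have hn : u₀ ∈ nb D a := by
      have := nbconj (t y)⁻¹ q hq
      rwa [InvMemClass.coe_inv, inv_inv, eu,
        show (t y : G)⁻¹ * ((t y : G) * u₀ * (t y : G)⁻¹) * (t y : G) = u₀ by group] at this
    rw [eF, hag u₀ ⟨hn, hu₀⟩, eu, (hsym (t y)).conj u₀ hn]
  -- the two maps on an edge
  have pair : ∀ y ∈ nb D a, ∀ z ∈ nb D a ∩ nb D y,
      (∀ u ∈ nb D y ∩ nb D z, F z u = F y u) ∨
        ∀ u ∈ nb D y ∩ nb D z, F z u = a' * F y u * a'⁻¹ := by
    intro y hy z hz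
    have good : ∀ p ∈ nb D a, ∀ q ∈ nb D a ∩ nb D p,
        Good D a D' a' θ p q (fun u => if u ∈ nb D p ∩ nb D q then F p u else 1) := by
      intro p hp q hq
      have hB := Fball p hp
      refine ⟨fun u hu => ?_, fun u hu => if_neg hu, ?_, fun r hr hu => ?_, fun u hu w hw => ?_,
        fun u hu w hw => ?_⟩
      · simp only [if_pos hu]
        have hm := hB.maps u hu.1
        refine ⟨hm, hm.1, fun e => hu.2.2.1 ?_, ?_⟩
        · rw [← Fθ p hp q hq.1 hq.2] at e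
          exact hB.inj u hu.1 q hq.2 e
        · rw [← Fθ p hp q hq.1 hq.2]
          exact (hB.comm q hq.2 u hu.1).2 hu.2.2.2
      · have hm : a ∈ nb D p ∩ nb D q := ⟨mem_nb_symm ha hp, mem_nb_symm ha hq.1⟩
        simp only [if_pos hm]
        exact Fa p hp
      · simp only [if_pos hu]
        exact Fθ p hp r hr hu.1
      · simp only [if_pos hu, if_pos hw]
        exact hB.comm u hu.1 w hw.1
      · simp only [if_pos hu, if_pos hw, if_pos (conj_mem_inter hD hu hw)]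
        exact hB.line u hu.1 w hw.1
    have g1 := good y hy z hz
    have g2 := (good z hz.1 y ⟨hy, mem_nb_symm hy.1 hz.2⟩).symm
    rcases Good.unique hD hD' hprim h23 hprim' h23' ha ha' hθ hy hz g1 g2 with e | e
    · left
      intro u hu
      have h := congrFun e u
      simp only [if_pos hu, if_pos (show u ∈ nb D z ∩ nb D y from ⟨hu.2, hu.1⟩)] at h
      exact h
    · right
      intro u hu
      have h := congrFun e u
      simp only [act, inv_one, one_mul, mul_one, if_pos hu, if_pos (show u ∈ nb D z ∩ nb D y from ⟨hu.2, hu.1⟩)] at h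
      exact h
  have compat : ∀ y ∈ nb D a, ∀ z ∈ nb D a ∩ nb D y, ∀ u ∈ nb D y ∩ nb D z, F z u = F y u := by
    intro y hy z hz
    by_contra hne
    have bad : ∀ p ∈ nb D a, ∀ q ∈ nb D a ∩ nb D p, ∀ u ∈ nb D p ∩ nb D q,
        F q u = a' * F p u * a'⁻¹ := by
      intro p hp q hq
      refine (pair p hp q hq).resolve_left fun hgood => hne ?_
      obtain ⟨g, hg, e1, e2⟩ := trans_edge hD hprim h23 ha hp hq hy hz
      intro u hu
      have hu' : g⁻¹ * u * g ∈ nb D p ∩ nb D q := by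
        have k1 := conj_nb hD g⁻¹ hu.1
        have k2 := conj_nb hD g⁻¹ hu.2
        rw [inv_inv, ← e1, show g⁻¹ * (g * p * g⁻¹) * g = p by group] at k1
        rw [inv_inv, ← e2, show g⁻¹ * (g * q * g⁻¹) * g = q by group] at k2
        exact ⟨k1, k2⟩
      have a1 := equi ⟨g, hg⟩ p hp _ hu'.1
      have a2 := equi ⟨g, hg⟩ q hq.1 _ hu'.2
      simp only [e1, e2, show g * (g⁻¹ * u * g) * g⁻¹ = u by group] at a1 a2
      rw [a1, a2, hgood _ hu']
    obtain ⟨c, hc, hac⟩ := Classes.exists_noncomm hD hprim.1 hprim.2.1 ha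
    obtain ⟨y₁, hy₁⟩ := Set.nonempty_of_ncard_ne_zero
      ((GenA.T23.L.M23.ncard_inter hD hprim h23 ha hc hac).trans_ne (by norm_num : (351 : ℕ) ≠ 0))
    obtain ⟨y₂, hy₂⟩ := Set.nonempty_of_ncard_ne_zero
      ((GenA.T23.L.M23.inner_degree hD hprim h23 ha hc hac hy₁).trans_ne
        (by norm_num : (126 : ℕ) ≠ 0))
    obtain ⟨y₃, hy₃⟩ := Set.nonempty_of_ncard_ne_zero
      ((GenA.T23.L.M23.inner_pair hD hprim h23 ha hc hac hy₁ hy₂).trans_ne
        (by norm_num : (45 : ℕ) ≠ 0))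
    have c1 : c ∈ nb D y₁ := mem_nb_symm hc hy₁.2
    have c2 : c ∈ nb D y₂ := mem_nb_symm hc hy₂.1.2
    have c3 : c ∈ nb D y₃ := mem_nb_symm hc hy₃.1.1.2
    have b12 := bad y₁ hy₁.1 y₂ ⟨hy₂.1.1, hy₂.2⟩ c ⟨c1, c2⟩
    have b13 := bad y₁ hy₁.1 y₃ ⟨hy₃.1.1.1, hy₃.1.2⟩ c ⟨c1, c3⟩
    have b23 := bad y₂ hy₂.1.1 y₃ ⟨hy₃.1.1.1, hy₃.2⟩ c ⟨c2, c3⟩
    rw [b13, b12] at b23
    have h0 : F y₁ c = a' * F y₁ c * a'⁻¹ := mul_left_cancel (mul_right_cancel b23)
    refine hac (((Fball y₁ hy₁.1).comm a (mem_nb_symm ha hy₁.1) c c1).1 ?_)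
    rw [Fa y₁ hy₁.1]
    exact mul_inv_eq_iff_eq_mul.1 h0.symm
  -- the value at a member outside
  have wd : ∀ c ∈ D, ¬ Commute a c → ∀ p ∈ nb D a ∩ nb D c, ∀ q ∈ nb D a ∩ nb D c,
      F q c = F p c := by
    intro c hc hac p hp q hq
    refine GenA.T23.L.M23.conn hD hprim h23 ha hc hac (fun r => F r c = F p c) ?_ hp rfl hq
    intro r hr s hs hrs e
    by_cases ers : s = r
    · rw [ers]; exact e
    · show F s c = F p c
      rw [compat r hr.1 s ⟨hs.1, hs.1.1, ers, hrs⟩ c ⟨mem_nb_symm hc hr.2, mem_nb_symm hc hs.2⟩]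
      exact e
  have hpick : ∀ c, ∃ y : G, c ∈ D → ¬ Commute a c → y ∈ nb D a ∩ nb D c := by
    intro c
    by_cases h : c ∈ D ∧ ¬ Commute a c
    · obtain ⟨y, hy⟩ := Set.nonempty_of_ncard_ne_zero
        ((GenA.T23.L.M23.ncard_inter hD hprim h23 ha h.1 h.2).trans_ne
          (by norm_num : (351 : ℕ) ≠ 0))
      exact ⟨y, fun _ _ => hy⟩
    · exact ⟨1, fun h1 h2 => absurd ⟨h1, h2⟩ h⟩
  choose pick hpick using hpick
  obtain ⟨Φ, hΦdef⟩ : ∃ Φ : G → G', ∀ y, Φ y = if y = a then a' else if Commute a y then θ y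
      else F (pick y) y := ⟨_, fun y => rfl⟩
  have Φa : Φ a = a' := by simp [hΦdef]
  have Φn : ∀ y ∈ nb D a, Φ y = θ y := fun y hy => by simp [hΦdef, hy.2.1, hy.2.2]
  have Φo : ∀ c ∈ D, ¬ Commute a c → ∀ y ∈ nb D a ∩ nb D c, Φ c = F y c := by
    intro c hc hac y hy
    have hne : c ≠ a := fun e => hac (e ▸ Commute.refl a)
    rw [hΦdef, if_neg hne, if_neg hac]
    exact wd c hc hac y hy _ (hpick c hc hac)
  have Φnb : ∀ c ∈ D, ¬ Commute a c → ∀ y ∈ nb D a ∩ nb D c,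
      Φ c ∈ nb D' (θ y) ∧ ¬ Commute a' (Φ c) := by
    intro c hc hac y hy
    have hcy := mem_nb_symm hc hy.2
    rw [Φo c hc hac y hy]
    refine ⟨(Fball y hy.1).maps c hcy, fun h => hac ?_⟩
    rw [← Fa y hy.1] at h
    exact ((Fball y hy.1).comm a (mem_nb_symm ha hy.1) c hcy).1 h
  have maps : ∀ y ∈ D, Φ y ∈ D' := by
    intro y hy
    by_cases e : y = a
    · rw [e, Φa]; exact ha'
    by_cases hay : Commute a y
    · rw [Φn y ⟨hy, e, hay⟩]; exact (hθ.maps y ⟨hy, e, hay⟩).1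
    · exact (Φnb y hy hay _ (hpick y hy hay)).1.1
  have surj : ∀ y ∈ D', ∃ z ∈ D, Φ z = y := by
    intro y hy
    by_cases e : y = a'
    · exact ⟨a, ha, Φa.trans e.symm⟩
    by_cases hay : Commute a' y
    · obtain ⟨z, hz, hzy⟩ := hθ.surj y ⟨hy, e, hay⟩
      exact ⟨z, hz.1, (Φn z hz).trans hzy⟩
    · obtain ⟨c, hc, hac⟩ := Classes.exists_noncomm hD hprim.1 hprim.2.1 ha
      have hp := hpick c hc hac
      obtain ⟨g, hg, hgy⟩ := RankThree.linked_outer hD' hprim'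
        (GenA.T23.L.M23.exists_comm hD' hprim' h23') ha' (maps c hc) hy
        (Φnb c hc hac _ hp).2 hay
      rw [GenA.T23.L.M23.loc_eq hD' hprim' h23' ha'] at hg
      obtain ⟨h, hh⟩ : ∃ h, h = ψ.symm ⟨g, hg⟩ := ⟨_, rfl⟩
      have hψh : (ψ h : G') = g := by rw [hh, MulEquiv.apply_symm_apply]
      have hnc : ¬ Commute a ((h : G) * c * (h : G)⁻¹) := fun e => hac (by
        refine (Basic.commute_conj (g := (h : G))).1 ?_
        rwa [RankThree.conj_self_of_commute (Hd_commute h.2)])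
      refine ⟨(h : G) * c * (h : G)⁻¹, hD.2.1 _ c hc, ?_⟩
      rw [Φo _ (hD.2.1 _ c hc) hnc _ ⟨nbconj h _ hp.1, conj_nb hD (h : G) hp.2⟩,
        equi h _ hp.1 c (mem_nb_symm hc hp.2), ← Φo c hc hac _ hp, hψh]
      exact hgy
  have inj : ∀ y ∈ D, ∀ z ∈ D, Φ y = Φ z → y = z := fun y hy z hz e =>
    Set.inj_on_of_surj_on_of_ncard_le (fun b _ => Φ b) (fun b hb => maps b hb)
      (fun b hb => by
        obtain ⟨z, hz, h⟩ := surj b hb
        exact ⟨z, hz, h⟩)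
      (by rw [GenA.T23.L.M23.ncard_class hD hprim h23,
        GenA.T23.L.M23.ncard_class hD' hprim' h23']) hy hz e (Set.toFinite _)
  -- commuting members
  have comm : ∀ y ∈ D, ∀ z ∈ D, Commute y z → Commute (Φ y) (Φ z) := by
    have outer : ∀ y ∈ D, ¬ Commute a y → ∀ z ∈ D, Commute y z → Commute (Φ y) (Φ z) := by
      intro y hy hay z hz hyz
      by_cases e : z = y
      · rw [e]
      by_cases haz : Commute a z
      · have hne : z ≠ a := fun e => hay (e ▸ hyz).symm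
        have hn : z ∈ nb D a ∩ nb D y := ⟨⟨hz, hne, haz⟩, hz, e, hyz⟩
        rw [Φn z hn.1]
        exact (Φnb y hy hay z hn).1.2.2.symm
      · obtain ⟨p, ⟨hpa, hpy⟩, hpz⟩ :=
          (GenA.T23.L.M23.hyp hD hprim h23).five a ha y hy z hz hay haz e hyz
        rw [Φo y hy hay p ⟨hpa, hpy⟩, Φo z hz haz p ⟨hpa, hpz⟩]
        exact ((Fball p hpa).comm y (mem_nb_symm hy hpy) z (mem_nb_symm hz hpz)).2 hyz
    intro y hy z hz hyz
    by_cases hay : Commute a y
    · by_cases haz : Commute a z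
      · by_cases ey : y = a
        · by_cases ez : z = a
          · rw [ey, ez]
          · rw [ey, Φa, Φn z ⟨hz, ez, haz⟩]
            exact (hθ.maps z ⟨hz, ez, haz⟩).2.2
        · by_cases ez : z = a
          · rw [ez, Φa, Φn y ⟨hy, ey, hay⟩]
            exact (hθ.maps y ⟨hy, ey, hay⟩).2.2.symm
          · rw [Φn y ⟨hy, ey, hay⟩, Φn z ⟨hz, ez, haz⟩]
            exact (hθ.comm y ⟨hy, ey, hay⟩ z ⟨hz, ez, haz⟩).2 hyz
      · exact (outer z hz haz y hy hyz.symm).symm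
    · exact outer y hy hay z hz hyz
  have commiff : ∀ y ∈ D, ∀ z ∈ D, Commute (Φ y) (Φ z) → Commute y z := by
    intro y hy z hz h
    by_cases e : z = y
    · rw [e]
    have hsub : Φ '' nb D y ⊆ nb D' (Φ y) := by
      rintro _ ⟨w, hw, rfl⟩
      exact ⟨maps w hw.1, fun e' => hw.2.1 (inj w hw.1 y hy e'), comm y hy w hw.1 hw.2.2⟩
    have heq : Φ '' nb D y = nb D' (Φ y) := Set.eq_of_subset_of_ncard_le hsub (by
      rw [Set.InjOn.ncard_image fun p hp q hq e' => inj p hp.1 q hq.1 e',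
        GenA.T23.L.M23.ncard_nb hD hprim h23 hy,
        GenA.T23.L.M23.ncard_nb hD' hprim' h23' (maps y hy)]) (Set.toFinite _)
    have hz' : Φ z ∈ nb D' (Φ y) := ⟨maps z hz, fun e' => e (inj z hz y hy e'), h⟩
    obtain ⟨w, hw, hwz⟩ := (heq ▸ hz' : Φ z ∈ Φ '' nb D y)
    rw [← inj w hw.1 z hz hwz]
    exact hw.2.2
  obtain ⟨e, he, -⟩ := iso_of_map' hD h23.1 hD' h23'.1 maps inj surj fun y hy z hz => by
    rw [Classes.inv hD hy, Classes.inv hD' (maps y hy)]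
    by_cases hyz : Commute y z
    · rw [hyz.eq, mul_assoc, Classes.sq hD hy, mul_one, (comm y hy z hz hyz).eq, mul_assoc,
        Classes.sq hD' (maps y hy), mul_one]
    have hw := Classes.conj_mem hD hy hz
    rcases Far.hull hD' hprim' h23' (maps y hy) (maps z hz)
      (fun h => hyz (commiff y hy z hz h)) (maps _ hw) (fun t' ht' => by
        obtain ⟨s, hs, rfl⟩ := surj t' ht'.1.1
        have h1 := commiff y hy s hs ht'.1.2.2
        have h2 := commiff z hz s hs ht'.2.2.2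
        exact comm _ hw s hs ((h1.mul_left h2).mul_left h1)) with e | e | e
    · exfalso
      have h := inj _ hw y hy e
      refine hyz ?_
      rw [mul_eq_right] at h
      rw [show z = y⁻¹ by rw [← mul_eq_one_iff_inv_eq.1 h]]
      exact (Commute.refl y).inv_right
    · exfalso
      have h := inj _ hw z hz e
      refine hyz ?_
      show y * z = z * y
      calc y * z = y * z * (y * y) := by rw [Classes.sq hD hy, mul_one]
        _ = z * y := by rw [← mul_assoc, h]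
    · exact e
  exact ⟨e, he⟩

end Cfsg.Agent.GenA.T23.L.Iso
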