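import Cfsg.Agent.GenA.T23.Iso.Graph
import Cfsg.Agent.GenA.Tower.Local23

/-!
The centraliser of a member, the order and the width of a group of type M(23).
-/

set_option autoImplicit false
set_option linter.unusedSectionVars false

namespace Cfsg.Agent.GenA.T23.L.M23

open Cfsg.Agent.GenA.Tower
open Cfsg.Agent.ThreeTransp
open Cfsg.Agent.ThreeTransp.Factor (nb Hd Sd Dl Dq Sep mem_Hd Hd_commute)
open Cfsg.Agent.ThreeTransp.Cover (mem_nb_symm conj_nb)
open Cfsg.Agent.ThreeTransp.RankThree (loc mem_loc)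

universe u


variable {G : Type u} [Group G] [Finite G] {D : Set G}
  (hD : Cfsg.IsThreeTranspositionGroup D)
  (hprim : Cfsg.IsPrimitiveUnderConj D) (h23 : Cfsg.Agent.GenA.T23.L.L23 D)
include hD hprim h23

/-- Nothing but the member centralises its local subgroup. -/
theorem centralizes_loc {a z : G} (ha : a ∈ D) (hz : ∀ h ∈ loc D a, Commute z h) :
    z = 1 ∨ z = a := by
  have hw := exists_comm hD hprim h23
  obtain ⟨c, hc, hac⟩ := Classes.exists_noncomm hD hprim.1 hprim.2.1 ha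
  obtain ⟨x, hxa, hxc⟩ := pair_nonempty hD hprim hw ha hc hac
  have hza : Commute z a := hz a (mem_loc ha (Commute.refl a))
  have hzx : Commute z x := hz x (mem_loc hxa.1 hxa.2.2)
  have hs := sep hD hprim h23 hxa.1
  have an : a ∈ nb D x := mem_nb_symm ha hxa
  have cn : c ∈ nb D x := mem_nb_symm hc hxc
  have hzc : z * c * z⁻¹ ∈ nb D x :=
    conj_fix_nb hD (RankThree.conj_self_of_commute hzx.symm) cn
  have key := hull22 (grp hD hprim h23 hxa.1) (prim hD hprim h23 hxa.1) (t22 hD hprim h23 hxa.1)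
    (pr_mem an) (pr_mem cn) (fun h => hac ((pr_comm hD an cn).1 h)) (pr_mem hzc) (by
      intro t ht
      obtain ⟨t, ⟨⟨htx, hta⟩, htc⟩, rfl⟩ :
          t ∈ pr D x '' (nb D x ∩ nb D a ∩ nb D c) := by
        rw [image_two hD hs an cn]; exact ht
      refine (pr_comm hD hzc htx).2 ?_
      have hzt : z * t * z⁻¹ = t := mul_inv_eq_iff_eq_mul.2 (hz t (mem_loc hta.1 hta.2.2)).eq
      have := (Basic.commute_conj (g := z)).2 htc.2.2
      rwa [hzt] at this)
  have main : ∀ w : G, (∀ h ∈ loc D a, Commute w h) → Commute w c → w = 1 := by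
    intro w hw1 hw2
    rw [← Subgroup.mem_bot, ← h23.1, Subgroup.mem_center_iff]
    intro g
    have hle : Subgroup.closure ({y : G | y ∈ D ∧ Commute a y} ∪ {c}) ≤
        Subgroup.centralizer ({w} : Set G) := by
      rw [Subgroup.closure_le]
      rintro y hy
      rw [SetLike.mem_coe, Subgroup.mem_centralizer_iff]
      rintro _ rfl
      rcases hy with hy | rfl
      · exact (hw1 y (mem_loc hy.1 hy.2)).eq
      · exact hw2.eq
    rw [RankThree.closure_eq_top hD hprim hw ha hc hac] at hle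
    exact (Subgroup.mem_centralizer_iff.1 (hle (Subgroup.mem_top g)) w rfl).symm
  rcases key with h | h | h
  · exfalso
    refine hac ?_
    have e : z * a * z⁻¹ = a := mul_inv_eq_iff_eq_mul.2 hza.eq
    exact (mul_left_cancel (mul_right_cancel ((pr_inj hs hzc an h).trans e.symm))) ▸ Commute.refl a
  · exact Or.inl (main z hz (mul_inv_eq_iff_eq_mul.1 (pr_inj hs hzc cn h)))
  · right
    have hac' : a * c * a ∈ nb D x := by
      have := conj_fix_nb hD (RankThree.conj_self_of_commute an.2.2) cn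
      rwa [Classes.inv hD ha] at this
    rw [← pr_mul (mem_Hd an) (mem_Hd cn),
      ← pr_mul (mul_mem (mem_Hd an) (mem_Hd cn)) (mem_Hd an)] at h
    have h' := pr_inj hs hzc hac' h
    have h1 := main (a * z) (fun t ht => ((RankThree.loc_commute ht)).mul_left (hz t ht)) (by
      show a * z * c = c * (a * z)
      calc a * z * c = a * (z * c * z⁻¹) * z := by group
        _ = (a * a) * c * (a * z) := by rw [h']; simp [mul_assoc]
        _ = c * (a * z) := by rw [Classes.sq hD ha, one_mul])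
    calc z = (a * a) * z := by rw [Classes.sq hD ha, one_mul]
      _ = a * (a * z) := mul_assoc _ _ _
      _ = a := by rw [h1, mul_one]

/-- A member is a product of six members commuting with it. -/
theorem six_product {a : G} (ha : a ∈ D) :
    ∃ p q r s t v : G, p ∈ nb D a ∧ q ∈ nb D a ∧ r ∈ nb D a ∧ s ∈ nb D a ∧ t ∈ nb D a ∧
      v ∈ nb D a ∧ a = p * q * r * s * t * v := by
  classical
  obtain ⟨b, hb⟩ := Set.nonempty_of_ncard_ne_zero
    ((ncard_nb hD hprim h23 ha).trans_ne (by norm_num : (3510 : ℕ) ≠ 0))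
  obtain ⟨c, hc⟩ := Set.nonempty_of_ncard_ne_zero
    ((ncard_one hD hprim h23 ha hb).trans_ne (by norm_num : (693 : ℕ) ≠ 0))
  obtain ⟨e, he⟩ := Set.nonempty_of_ncard_ne_zero
    ((ncard_adj hD hprim h23 ha hb hc.1 hc.2.2.1.symm hc.2.2.2).trans_ne
      (by norm_num : (180 : ℕ) ≠ 0))
  have an : a ∈ nb D b := mem_nb_symm ha hb
  have cn : c ∈ nb D b := hc.2
  have en : e ∈ nb D b := he.1.2
  have hs := sep hD hprim h23 hb.1
  obtain ⟨_, _, _, hx, hy, hz, hnd, hcs, -, hprod⟩ := Factor.exists_other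
    (grp hD hprim h23 hb.1) (prim hD hprim h23 hb.1) (t22 hD hprim h23 hb.1)
    (pr_mem an) (pr_mem cn) (pr_mem en)
    (fun h => hc.1.2.1 (pr_inj hs cn an h.symm)) (fun h => he.1.1.2.1 (pr_inj hs en an h.symm))
    (fun h => he.2.2.1 (pr_inj hs en cn h.symm))
    ((pr_comm hD an cn).2 hc.1.2.2) ((pr_comm hD an en).2 he.1.1.2.2)
    ((pr_comm hD cn en).2 he.2.2.2)
  rename_i x y z
  obtain ⟨x, xn, rfl⟩ : x ∈ pr D b '' nb D b := by rw [image_nb_pr]; exact hx.1
  obtain ⟨y, yn, rfl⟩ : y ∈ pr D b '' nb D b := by rw [image_nb_pr]; exact hy.1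
  obtain ⟨z, zn, rfl⟩ : z ∈ pr D b '' nb D b := by rw [image_nb_pr]; exact hz.1
  set w := a * c * e * x * y * z with hwdef
  have hnd' : [a, c, e, x, y, z].Nodup := List.Nodup.of_map (pr D b) (by simpa using hnd)
  have cm : ∀ {p q : G}, p ∈ nb D b → q ∈ nb D b → Commute (pr D b p) (pr D b q) → Commute p q :=
    fun hp hq h => (pr_comm hD hp hq).1 h
  have cxa := cm xn an hx.2.2.1.1
  have cxc := cm xn cn hx.2.2.1.2.1
  have cxe := cm xn en hx.2.2.1.2.2
  have cya := cm yn an hy.2.2.1.1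
  have cyc := cm yn cn hy.2.2.1.2.1
  have cye := cm yn en hy.2.2.1.2.2
  have cza := cm zn an hz.2.2.1.1
  have czc := cm zn cn hz.2.2.1.2.1
  have cze := cm zn en hz.2.2.1.2.2
  have cxy := cm xn yn hcs.1
  have cxz := cm xn zn hcs.2.1
  have cyz := cm yn zn hcs.2.2
  have hw1 : w ≠ 1 := by
    have := (L23.rel hD hprim.1 h23) [a, c, e, x, y, z] hnd' (by simp) (by simp)
      (by simp [ha, hc.1.1, he.1.1.1, xn.1, yn.1, zn.1])
      (by simp [hc.1.2.2, hc.1.2.2.symm, he.1.1.2.2, he.1.1.2.2.symm, he.2.2.2, he.2.2.2.symm, cxa,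
        cxa.symm, cxc, cxc.symm, cxe, cxe.symm, cya, cya.symm, cyc, cyc.symm, cye, cye.symm, cza,
        cza.symm, czc, czc.symm, cze, cze.symm, cxy, cxy.symm, cxz, cxz.symm, cyz, cyz.symm])
    simpa [hwdef, mul_assoc] using this
  have hwm : w ∈ Hd D b := mul_mem (mul_mem (mul_mem (mul_mem (mul_mem (mem_Hd an) (mem_Hd cn))
    (mem_Hd en)) (mem_Hd xn)) (mem_Hd yn)) (mem_Hd zn)
  have hsq : pr D b w = 1 := by
    have e1 : w = a * c * e * (x * y * z) := by simp [hwdef, mul_assoc]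
    have m1 : a * c * e ∈ Hd D b := mul_mem (mul_mem (mem_Hd an) (mem_Hd cn)) (mem_Hd en)
    have m2 : x * y * z ∈ Hd D b := mul_mem (mul_mem (mem_Hd xn) (mem_Hd yn)) (mem_Hd zn)
    have hxyz : (x * y * z) * (x * y * z) = 1 := by
      rw [← pow_two, (cxz.mul_left cyz).mul_pow, cxy.mul_pow, pow_two, pow_two, pow_two,
        Classes.sq hD xn.1, Classes.sq hD yn.1, Classes.sq hD zn.1, one_mul, one_mul]
    rw [e1, pr_mul m1 m2, pr_mul (mul_mem (mem_Hd an) (mem_Hd cn)) (mem_Hd en),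
      pr_mul (mem_Hd an) (mem_Hd cn), hprod, ← pr_mul (mem_Hd xn) (mem_Hd yn),
      ← pr_mul (mul_mem (mem_Hd xn) (mem_Hd yn)) (mem_Hd zn), ← pr_mul m2 m2, hxyz,
      pr_mk (one_mem _)]
    rfl
  rw [pr_mk hwm, QuotientGroup.eq_one_iff] at hsq
  have hwz : ∀ h ∈ loc D b, Commute w h := by
    intro h hh
    induction hh using Subgroup.closure_induction with
    | one => exact Commute.one_right _
    | mul p q _ _ hp hq => exact hp.mul_right hq
    | inv p _ hp => exact hp.inv_right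
    | mem p hp =>
      by_cases epb : p = b
      · rw [epb]; exact (Hd_commute hwm).symm
      · exact (congrArg Subtype.val
          (Subgroup.mem_center_iff.1 hsq ⟨p, mem_Hd ⟨hp.1, epb, hp.2⟩⟩)).symm
  rcases centralizes_loc hD hprim h23 hb.1 hwz with h | h
  · exact absurd h hw1
  simp only [List.nodup_cons, List.mem_cons, List.not_mem_nil, or_false, not_or] at hnd'
  obtain ⟨⟨-, -, hax, hay, haz⟩, -⟩ := hnd'
  refine ⟨b, z, y, x, e, c, hb, ⟨zn.1, Ne.symm haz, cza.symm⟩, ⟨yn.1, Ne.symm hay, cya.symm⟩,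
    ⟨xn.1, Ne.symm hax, cxa.symm⟩, he.1.1, hc.1, ?_⟩
  have h' : a * c * e * x * y * z = b := h
  rw [← h']
  simp [mul_assoc, Classes.sq hD hc.1.1, Classes.sq hD he.1.1.1, Classes.sq hD xn.1,
    Classes.sq hD yn.1, Classes.sq hD zn.1]

theorem mem_Hd_self {a : G} (ha : a ∈ D) : a ∈ Hd D a := by
  obtain ⟨p, q, r, s, t, v, hp, hq, hr, hs, ht, hv, e⟩ := six_product hD hprim h23 ha
  have h := mul_mem (mul_mem (mul_mem (mul_mem (mul_mem (mem_Hd hp) (mem_Hd hq)) (mem_Hd hr))
    (mem_Hd hs)) (mem_Hd ht)) (mem_Hd hv)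
  rwa [← e] at h

theorem loc_eq {a : G} (ha : a ∈ D) : loc D a = Hd D a := by
  refine le_antisymm ((Subgroup.closure_le _).2 fun y hy => ?_)
    (Subgroup.closure_mono fun y hy => ⟨hy.1, hy.2.2⟩)
  by_cases e : y = a
  · rw [e]; exact mem_Hd_self hD hprim h23 ha
  · exact mem_Hd ⟨hy.1, e, hy.2⟩

/-- The centre of the local subgroup. -/
theorem center_eq {a : G} (ha : a ∈ D) :
    Subgroup.center ↥(Hd D a) = (Subgroup.zpowers a).subgroupOf (Hd D a) := by
  ext z
  rw [Subgroup.mem_subgroupOf]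
  constructor
  · intro hz
    rcases centralizes_loc hD hprim h23 ha (z := (z : G)) (fun h hh => by
        rw [loc_eq hD hprim h23 ha] at hh
        exact (congrArg Subtype.val (Subgroup.mem_center_iff.1 hz ⟨h, hh⟩)).symm) with e | e
    · rw [e]; exact one_mem _
    · rw [e]; exact Subgroup.mem_zpowers a
  · intro hz
    rw [Subgroup.mem_center_iff]
    intro h
    obtain ⟨k, hk⟩ := Subgroup.mem_zpowers_iff.1 hz
    refine Subtype.ext ?_
    simp only [Subgroup.coe_mul, ← hk]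
    exact ((Hd_commute h.2).zpow_left k).eq.symm

theorem card_loc {a : G} (ha : a ∈ D) : Nat.card ↥(Hd D a) = 129123503308800 := by
  rw [Subgroup.card_eq_card_quotient_mul_card_subgroup (Subgroup.center ↥(Hd D a)),
    show Nat.card (↥(Hd D a) ⧸ Subgroup.center ↥(Hd D a)) = _ from
      ThreeTransp.M22.card_group (grp hD hprim h23 ha) (prim hD hprim h23 ha)
        (t22 hD hprim h23 ha),
    center_eq hD hprim h23 ha, Nat.card_congr (Subgroup.subgroupOfEquivOfLe
      (Subgroup.zpowers_le.2 (mem_Hd_self hD hprim h23 ha))).toEquiv, Nat.card_zpowers,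
    hD.1.1 a ha]

/-- Local elements centralising a neighbour lie in the neighbour's local subgroup. -/
theorem loc_inf {w a h : G} (hw : w ∈ D) (ha : a ∈ nb D w) (hh : h ∈ loc D w)
    (hha : Commute h a) : h ∈ loc D a := by
  rw [loc_eq hD hprim h23 hw] at hh
  have hs := sep hD hprim h23 hw
  have hc : Commute (pr D w h) (pr D w a) := by
    rw [pr_mk hh, pr_mk (mem_Hd ha)]
    exact (show Commute (⟨h, hh⟩ : ↥(Hd D w)) ⟨a, mem_Hd ha⟩ from Subtype.ext hha.eq).map
      (QuotientGroup.mk' _)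
  have hcent : pr D w h ∈ Subgroup.centralizer ({pr D w a} : Set (Sd D w)) :=
    Subgroup.mem_centralizer_iff.2 (by rintro _ rfl; exact hc.eq.symm)
  rw [ThreeTransp.M22.centralizer_eq (grp hD hprim h23 hw) (prim hD hprim h23 hw)
    (t22 hD hprim h23 hw) (pr_mem ha)] at hcent
  have key : ∀ q ∈ Hd (Dq D w) (pr D w a), ∃ m ∈ Hd D w, m ∈ loc D a ∧ pr D w m = q := by
    intro q hq
    induction hq using Subgroup.closure_induction with
    | one => exact ⟨1, one_mem _, one_mem _, by rw [pr_mk (one_mem _)]; rfl⟩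
    | mul p q _ _ hp hq =>
      obtain ⟨m, h1, h2, rfl⟩ := hp
      obtain ⟨n, h3, h4, rfl⟩ := hq
      exact ⟨m * n, mul_mem h1 h3, mul_mem h2 h4, pr_mul h1 h3⟩
    | inv p _ hp =>
      obtain ⟨m, h1, h2, rfl⟩ := hp
      exact ⟨m⁻¹, inv_mem h1, inv_mem h2, pr_inv h1⟩
    | mem p hp =>
      rw [← image_one hD hs ha] at hp
      obtain ⟨m, hm, rfl⟩ := hp
      exact ⟨m, mem_Hd hm.1, mem_loc hm.2.1 hm.2.2.2, rfl⟩
  obtain ⟨m, hm, hm', e⟩ := key _ hcent
  rw [pr_mk hm, pr_mk hh, QuotientGroup.eq, center_eq hD hprim h23 hw, Subgroup.mem_subgroupOf] at e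
  have hwa : w ∈ loc D a := mem_loc hw ha.2.2.symm
  have := mul_mem hm' ((Subgroup.zpowers_le.2 hwa) e)
  simpa using this

theorem hyp : Cover.Hyp D where
  key w hw a ha h hh hc := loc_inf hD hprim h23 hw ha hh hc
  two a ha b hb := Set.nonempty_of_ncard_ne_zero
    ((ncard_one hD hprim h23 ha hb).trans_ne (by norm_num : (693 : ℕ) ≠ 0))
  three a ha b hb c hc := Set.nonempty_of_ncard_ne_zero
    ((ncard_adj hD hprim h23 ha hb hc.1 hc.2.2.1.symm hc.2.2.2).trans_ne
      (by norm_num : (180 : ℕ) ≠ 0))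
  mid a ha b hb w hw w' hw' hne hc := by
    have hww : w' ∈ nb D w := ⟨hw'.1.1, hne.symm, hc⟩
    have h693 := ncard_one hD hprim h23 hw.1.1 hww
    have hle : ∀ p ∈ D, p ∈ nb D w → p ∈ nb D w' →
        {e | e ∈ nb D w ∩ nb D w' ∧ Commute e p}.ncard ≤ 181 := by
      intro p hpD hp hp'
      have hsub : {e | e ∈ nb D w ∩ nb D w' ∧ Commute e p} ⊆
          insert p (nb D w ∩ nb D w' ∩ nb D p) := by
        rintro e ⟨he, hep⟩
        by_cases h : e = p
        · exact Or.inl h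
        · exact Or.inr ⟨he, he.1.1, h, hep.symm⟩
      have h180 := ncard_adj hD hprim h23 hw.1.1 hww hp hp'.2.1.symm hp'.2.2
      have := Set.ncard_le_ncard hsub (Set.toFinite _)
      have := Set.ncard_insert_le p (nb D w ∩ nb D w' ∩ nb D p)
      omega
    have h1 := hle a ha (mem_nb_symm ha hw.1) (mem_nb_symm ha hw'.1)
    have h2 := hle b hb.1 (mem_nb_symm hb.1 hw.2) (mem_nb_symm hb.1 hw'.2)
    by_contra! hcon
    have hsub : nb D w ∩ nb D w' ⊆ {e | e ∈ nb D w ∩ nb D w' ∧ Commute e a} ∪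
        {e | e ∈ nb D w ∩ nb D w' ∧ Commute e b} := by
      intro e he
      by_cases hea : Commute e a
      · exact Or.inl ⟨he, hea⟩
      · exact Or.inr ⟨he, hcon e he hea⟩
    have h3 := (Set.ncard_le_ncard hsub (Set.toFinite _)).trans (Set.ncard_union_le _ _)
    omega
  join a ha b hb w hw w' hw' hnc := by
    obtain ⟨z, ⟨⟨hza, hzw⟩, hzw'⟩, hzb⟩ := Set.nonempty_of_ncard_ne_zero
      ((ncard_four hD hprim h23 ha (y := b) hw.1 hw'.1 hnc
        ⟨⟨hb, mem_nb_symm hb.1 hw.2⟩, mem_nb_symm hb.1 hw'.2⟩).trans_ne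
          (by norm_num : (45 : ℕ) ≠ 0))
    exact ⟨z, ⟨⟨hza, hzb⟩, hzw⟩, hzw'⟩
  conn a ha c hc hac P hP x hx hPx x' hx' := conn hD hprim h23 ha hc hac P hP hx hPx hx'
  five a ha y hy z hz hay haz hne hyz := by
    obtain ⟨x, ⟨hxy, hxa⟩, hxz⟩ := Set.nonempty_of_ncard_ne_zero
      ((sixty_three hD hprim h23 hy ha (fun h => hay h.symm) ⟨hz, hne, hyz⟩
        (fun h => haz h.2.2)).trans_ne (by norm_num : (63 : ℕ) ≠ 0))
    exact ⟨x, ⟨hxa, hxy⟩, hxz⟩

/-- The centraliser of a member is its local subgroup. -/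
theorem centralizer_eq {a : G} (ha : a ∈ D) :
    Subgroup.centralizer ({a} : Set G) = Hd D a := by
  rw [Cover.centralizer_eq_loc hD hprim (exists_comm hD hprim h23) (hyp hD hprim h23) ha,
    loc_eq hD hprim h23 ha]


end Cfsg.Agent.GenA.T23.L.M23
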